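import Mathlib
import Cfsg.Agent.Lib.Solvable.Primitive
import Cfsg.Agent.S0675

/-!
Groups acting transitively on a prime number of points, and groups with a normal subgroup of
prime order.
-/

set_option autoImplicit false

namespace CfsgLib.Perm.SquarePlusOne

open MulAction

universe u v

/-- A normal subgroup of prime order acting freely at `b`: what a point stabiliser looks like. -/
theorem prime_normal {H : Type u} {X : Type v} [Group H] [Finite H] [MulAction H X]
    (M : Subgroup H) [M.Normal] {p : ℕ} (hp : p.Prime) (hM : Nat.card M = p) (b : X)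
    (S : Subgroup H) (hS : ∀ s ∈ S, s • b = b) (hfree : ∀ m ∈ M, m • b = b → m = 1)
    (hcen : ∀ s ∈ S, (∀ m ∈ M, Commute s m) → s = 1) :
    (∀ s ∈ S, ∀ m ∈ M, m ≠ 1 → s • m • b = m • b → s = 1) ∧
      (∀ s ∈ S, ∀ t ∈ S, Commute s t) ∧ Nat.card S ∣ p - 1 := by
  haveI := Fact.mk hp
  haveI : IsCyclic M := isCyclic_of_prime_card hM
  set φ : S →* MulAut M := (MulAut.conjNormal (H := M)).comp S.subtype
  have hφ : Function.Injective φ := by
    rw [injective_iff_map_eq_one]
    intro s hs
    refine Subtype.ext (hcen s s.2 fun m hm => ?_)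
    have h := congrArg Subtype.val (DFunLike.congr_fun hs ⟨m, hm⟩)
    simp only [φ, MonoidHom.comp_apply, MulAut.conjNormal_apply, Subgroup.coe_subtype,
      MulAut.one_apply] at h
    exact mul_inv_eq_iff_eq_mul.mp h
  refine ⟨fun s hs m hm hm1 h => hcen s hs ?_, fun s hs t ht => ?_, ?_⟩
  · have hc : Commute s m := by
      have hmem : s * m * s⁻¹ ∈ M := Subgroup.Normal.conj_mem inferInstance m hm s
      have hfix : (m⁻¹ * (s * m * s⁻¹)) • b = b := by
        rw [mul_smul, mul_smul, mul_smul, inv_smul_eq_iff.mpr (hS s hs).symm, h, inv_smul_smul]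
      have h1 := inv_mul_eq_one.mp (hfree _ (mul_mem (inv_mem hm) hmem) hfix)
      exact mul_inv_eq_iff_eq_mul.mp h1.symm
    intro n hn
    have hgen : (⟨n, hn⟩ : M) ∈ Subgroup.zpowers (⟨m, hm⟩ : M) :=
      mem_zpowers_of_prime_card hM (fun e => hm1 (congrArg Subtype.val e))
    obtain ⟨k, hk⟩ := Subgroup.mem_zpowers_iff.mp hgen
    have hk' : m ^ k = n := congrArg Subtype.val hk
    rw [← hk']
    exact hc.zpow_right k
  · have h1 : φ (⟨s, hs⟩ * ⟨t, ht⟩) = φ (⟨t, ht⟩ * ⟨s, hs⟩) := by
      rw [map_mul, map_mul]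
      apply (IsCyclic.mulAutMulEquiv M).injective
      rw [map_mul, map_mul, mul_comm]
    exact congrArg Subtype.val (hφ h1)
  · have h := Subgroup.card_dvd_of_injective φ hφ
    rwa [IsCyclic.card_mulAut, hM, Nat.totient_prime hp] at h

/-- Transitive actions of prime degree: two transitive, or a point stabiliser acts semiregularly
on the other points and is commutative. -/
theorem dichotomy {K : Type u} {X : Type v} [Group K] [Finite K] [Finite X] [MulAction K X]
    [IsPretransitive K X] (hp : (Nat.card X).Prime) (b : X) :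
    (∀ x y : X, x ≠ b → y ≠ b → ∃ k : K, k • b = b ∧ k • x = y) ∨
    ((∀ k : K, k • b = b → ∀ x : X, x ≠ b → k • x = x → ∀ z : X, k • z = z) ∧
      ∀ k l : K, k • b = b → l • b = b → ∀ z : X, k • l • z = l • k • z) := by
  classical
  letI := Fintype.ofFinite X
  set R := (MulAction.toPermHom K X).range with hR
  haveI : IsPretransitive R X := ⟨fun x y => by
    obtain ⟨k, hk⟩ := exists_smul_eq K x y
    exact ⟨⟨_, k, rfl⟩, hk⟩⟩
  rcases Cfsg.Agent.S0675.result (α := X) (by rwa [← Nat.card_eq_fintype_card]) R with hs | h2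
  · right
    haveI := hs
    haveI : Nonempty X := ⟨b⟩
    have hprim : IsPreprimitive R X := IsPreprimitive.of_prime_card hp
    have hRne : (⊤ : Subgroup R) ≠ ⊥ := by
      intro h
      haveI : Subsingleton X := ⟨fun x y => by
        obtain ⟨r, rfl⟩ := exists_smul_eq R x y
        rw [(Subgroup.eq_bot_iff_forall _).mp h r (Subgroup.mem_top r), one_smul]⟩
      exact (Finite.card_le_one_iff_subsingleton.mpr this).not_gt hp.one_lt
    obtain ⟨M, hMn, hM, -, hmin⟩ :=
      CfsgLib.Solvable.Basic.exists_minimal_normal_le (H := (⊤ : Subgroup R)) hRne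
    haveI := hMn
    obtain ⟨ht, hst, q, d, hq, -, hXd, hMd⟩ :=
      CfsgLib.Solvable.Primitive.minimal_normal_regular hprim M hM hmin
    haveI := ht
    have hMc : Nat.card M = Nat.card X := hMd.trans hXd.symm
    have hfree : ∀ m ∈ M, m • b = b → m = 1 := fun m hm h => by
      have h1 : (⟨m, hm⟩ : M) ∈ stabilizer M b := h
      rw [hst, Subgroup.mem_bot] at h1
      exact congrArg Subtype.val h1
    obtain ⟨h1, h2, -⟩ := prime_normal M hp hMc b (stabilizer R b) (fun _ h => h) hfree (by
      intro s hs hc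
      refine eq_of_smul_eq_smul (α := X) fun z => ?_
      obtain ⟨m, rfl⟩ := exists_smul_eq M b z
      change s • (m : R) • b = (1 : R) • (m : R) • b
      rw [one_smul, smul_smul, (hc m m.2).eq, mul_smul, mem_stabilizer_iff.mp hs])
    let r : K → R := fun k => ⟨_, k, rfl⟩
    refine ⟨fun k hk x hx hkx z => ?_, fun k l hk hl z => ?_⟩
    · obtain ⟨m, rfl⟩ := exists_smul_eq M b x
      have := h1 (r k) hk m m.2 (fun e => hx (by
        change (m : R) • b = b
        rw [e, one_smul])) hkx
      have h' := congrArg (fun u : R => u • z) this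
      simp only [one_smul] at h'
      exact h'
    · exact congrArg (fun u : R => u • z) (h2 (r k) hk (r l) hl).eq
  · left
    intro x y hx hy
    obtain ⟨g, hg1, hg2⟩ := MulAction.is_two_pretransitive_iff.mp h2 (Ne.symm hx) (Ne.symm hy)
    obtain ⟨_, k, rfl⟩ := g
    exact ⟨k, hg1, hg2⟩

end CfsgLib.Perm.SquarePlusOne
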