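import Cfsg.Agent.Lib.Perm.SquarePlusOne.Main

/-!
Conclusion: degree `p ^ 2 + 1`.
-/

set_option autoImplicit false

namespace CfsgLib.Perm.SquarePlusOne

open MulAction
open scoped Pointwise

universe u v

variable {G : Type u} {Ω : Type v} [Group G] [MulAction G Ω] [Fintype Ω] [Finite G]
  [FaithfulSMul G Ω]

namespace Sys

variable {p : ℕ} (Y : Sys G Ω p)
  [IsPretransitive (stabilizer G Y.a) (SubMulAction.ofStabilizer G Y.a)]
  [FaithfulSMul (stabilizer G Y.a) (SubMulAction.ofStabilizer G Y.a)]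

omit [FaithfulSMul G Ω] [FaithfulSMul (stabilizer G Y.a) (SubMulAction.ofStabilizer G Y.a)] in
theorem card_G [IsPretransitive G Ω] (hΩ : Fintype.card Ω = p ^ 2 + 1) :
    Nat.card G = (p ^ 2 + 1) * (p ^ 2 * Nat.card (stabilizer (stabilizer G Y.a) Y.S.b)) := by
  rw [CfsgLib.Perm.Basic.card_eq_mul_stabilizer (G := G) Y.a,
    CfsgLib.Perm.Basic.card_eq_mul_stabilizer (G := stabilizer G Y.a) Y.S.b, Y.S.hX,
    Nat.card_eq_fintype_card, hΩ]

theorem le_two (hΩ : Fintype.card Ω = p ^ 2 + 1) (hp2 : p = 2) :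
    Nat.card (stabilizer (stabilizer G Y.a) Y.S.b) ≤ 2 := by
  subst hp2
  have hX := Y.S.hX
  have hBc := Y.S.hBc
  have hco : (Y.S.Bᶜ : Set (SubMulAction.ofStabilizer G Y.a)).ncard = 2 := by
    rw [Set.ncard_compl, hX, hBc]
    norm_num
  obtain ⟨x, hx⟩ := (Set.ncard_pos (Set.toFinite _)).mp (hco.symm ▸ two_pos)
  obtain ⟨b', hb', hbne⟩ := Set.exists_ne_of_one_lt_ncard (hBc.symm ▸ one_lt_two) Y.S.b
  have hBeq : Y.S.B = {Y.S.b, b'} := by
    refine (Set.eq_of_subset_of_ncard_le ?_ ?_ (Set.toFinite _)).symm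
    · rintro y (rfl | rfl)
      exacts [Y.S.hb, hb']
    · rw [hBc, Set.ncard_pair hbne.symm]
  have hstab : ∀ h : stabilizer G Y.a, h • Y.S.b = Y.S.b → h • Y.S.B = Y.S.B := fun h hh =>
    (isBlock_iff_smul_eq_of_mem.mp Y.S.hB) Y.S.hb (by rw [hh]; exact Y.S.hb)
  refine le_trans ?_ hco.le
  rw [← Nat.card_coe_set_eq]
  let f : stabilizer (stabilizer G Y.a) Y.S.b → ↥(Y.S.Bᶜ) := fun h =>
    ⟨(h : stabilizer G Y.a) • x, fun hmem => hx (by
      rw [← hstab _ h.2] at hmem
      exact Set.smul_mem_smul_set_iff.mp hmem)⟩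
  refine Nat.card_le_card_of_injective f fun h h' e => ?_
  have e' : (h : stabilizer G Y.a) • x = (h' : stabilizer G Y.a) • x := congrArg Subtype.val e
  apply Subtype.ext
  rw [← inv_mul_eq_one]
  set g := (h : stabilizer G Y.a)⁻¹ * (h' : stabilizer G Y.a) with hg
  have hgb : g • Y.S.b = Y.S.b := by
    rw [hg, mul_smul, show (h' : stabilizer G Y.a) • Y.S.b = Y.S.b from h'.2, inv_smul_eq_iff]
    exact h.2.symm
  have hgx : g • x = x := by rw [hg, mul_smul, ← e', inv_smul_smul]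
  refine eq_of_smul_eq_smul (α := SubMulAction.ofStabilizer G Y.a) fun y => ?_
  rw [one_smul]
  have hgB := hstab g hgb
  by_cases hy : y ∈ Y.S.B
  · have h1 : g • y ∈ Y.S.B := hgB ▸ Set.smul_mem_smul_set hy
    rw [hBeq] at hy h1
    rcases hy with rfl | rfl
    · exact hgb
    · rcases h1 with h1 | h1
      · exact absurd (smul_left_cancel g (h1.trans hgb.symm)) hbne
      · exact h1
  · have h1 : g • y ∉ Y.S.B := fun hmem => hy (by
      rw [← hgB] at hmem
      exact Set.smul_mem_smul_set_iff.mp hmem)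
    obtain ⟨u, w, huw, hu⟩ := Set.ncard_eq_two.mp hco
    have hy' : y ∈ ({u, w} : Set _) := hu ▸ hy
    have h1' : g • y ∈ ({u, w} : Set _) := hu ▸ h1
    have hx' : x ∈ ({u, w} : Set _) := hu ▸ hx
    by_cases hyx : y = x
    · rw [hyx, hgx]
    · have hne : g • y ≠ x := fun e2 => hyx (smul_left_cancel g (e2.trans hgx.symm))
      simp only [Set.mem_insert_iff, Set.mem_singleton_iff] at hy' h1' hx'
      rcases hy' with rfl | rfl <;> rcases h1' with h | h <;> rcases hx' with rfl | rfl <;>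
        first | exact h | exact absurd rfl hyx | exact absurd h hne

theorem final_false (hp : p.Prime) (hΩ : Fintype.card Ω = p ^ 2 + 1)
    (h2 : IsMultiplyPretransitive G Ω 2) (hp3 : p ≠ 2) (hF : Y.Final) : False := by
  classical
  haveI := h2
  haveI : IsPretransitive G Ω := isPretransitive_of_is_two_pretransitive
  obtain ⟨hne, hW, hsemi⟩ := hF
  obtain ⟨hfree, -, hm⟩ := Y.S.regular_kernel hne hW
  set m := Nat.card (stabilizer (stabilizer G Y.a) Y.S.b) with hmdef
  have hthree : ∀ g : G, ∀ x y z : Ω, x ≠ y → y ≠ z → x ≠ z →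
      g • x = x → g • y = y → g • z = z → g = 1 := by
    intro g x y z hxy hyz hxz hgx hgy hgz
    obtain ⟨h, hhx, hhy⟩ := MulAction.is_two_pretransitive_iff.mp h2 (Y.blk.ne) hxy
    set g' := h⁻¹ * g * h with hg'
    have ga : g' • Y.a = Y.a := by
      rw [hg', mul_smul, mul_smul, hhx, hgx, inv_smul_eq_iff, hhx]
    have gb : g' • Y.bb = Y.bb := by
      rw [hg', mul_smul, mul_smul, hhy, hgy, inv_smul_eq_iff, hhy]
    have hza : h⁻¹ • z ≠ Y.a := by
      rw [ne_eq, inv_smul_eq_iff, hhx]; exact hxz.symm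
    set w : SubMulAction.ofStabilizer G Y.a := ⟨h⁻¹ • z, hza⟩
    set gH : stabilizer G Y.a := ⟨g', ga⟩
    have hgHb : gH • Y.S.b = Y.S.b := Subtype.ext gb
    have hgHw : gH • w = w := by
      apply Subtype.ext
      change g' • h⁻¹ • z = h⁻¹ • z
      rw [hg', mul_smul, mul_smul, smul_inv_smul, hgz]
    have hwb : w ≠ Y.S.b := fun e => by
      have e' : h⁻¹ • z = Y.bb := congrArg Subtype.val e
      rw [inv_smul_eq_iff, hhy] at e'
      exact hyz e'.symm
    have h1 : gH = 1 := by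
      by_cases hwB : w ∈ Y.S.B
      · exact hfree gH hgHb w hwB hwb hgHw
      · have h0 : gH ∈ Y.S.Kb := ⟨hsemi gH hgHb w hwB (by rw [hgHw]), hgHb⟩
        rwa [hne, Subgroup.mem_bot] at h0
    have h4 : h⁻¹ * g * h = 1 := congrArg Subtype.val h1
    calc g = h * (h⁻¹ * g * h) * h⁻¹ := by group
      _ = 1 := by rw [h4]; group
  obtain ⟨r, hr⟩ := hp.odd_of_ne_two hp3
  have hsum : p ^ 2 + 1 = 2 * (2 * r ^ 2 + 2 * r + 1) := by rw [hr]; ring
  have hodd : Odd (2 * r ^ 2 + 2 * r + 1) := ⟨r ^ 2 + r, by ring⟩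
  have hev : Even (Nat.card Ω) := by
    rw [Nat.card_eq_fintype_card, hΩ, hsum]; exact even_two_mul _
  have h3 : 3 ≤ Nat.card Ω := by
    rw [Nat.card_eq_fintype_card, hΩ]; nlinarith [hp.two_le]
  have hGc := Y.card_G hΩ
  rw [← hmdef] at hGc
  rcases Nat.even_or_odd m with hme | hmo
  · have hcard : Nat.card ↥(stabilizer G Y.a ⊓ stabilizer G Y.bb) = m := Nat.card_congr
      { toFun := fun g => ⟨⟨g, g.2.1⟩, Subtype.ext g.2.2⟩
        invFun := fun g => ⟨((g : stabilizer G Y.a) : G), (g : stabilizer G Y.a).2,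
          congrArg Subtype.val g.2⟩ }
    have hZ : Cfsg.IsZassenhausGroup G Ω := by
      refine ⟨‹_›, h2, hthree, ?_, ?_⟩
      · have : stabilizer (stabilizer G Y.a) Y.S.b ≠ ⊥ := by
          intro h
          rw [hmdef, h, Subgroup.card_bot] at hme
          exact Nat.not_even_one hme
        obtain ⟨g, hg, hg1⟩ := (Subgroup.bot_or_exists_ne_one _).resolve_left this
        exact ⟨g, fun e => hg1 (Subtype.ext e), Y.a, Y.bb, Y.blk.ne, g.2,
          congrArg Subtype.val hg⟩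
      · intro N hN htr
        by_contra hreg
        push_neg at hreg
        haveI := hN
        haveI := htr
        refine no_twice_odd_normal h2 hev h3 N hodd ?_
        rw [CfsgLib.Perm.Normal.regular_card N hreg Y.a, Nat.card_eq_fintype_card, hΩ, hsum]
    have hb := Cfsg.Agent.S0741.result hZ Y.blk.ne (hcard.symm ▸ hme)
    rw [hcard, hΩ] at hb
    have h5 := Nat.le_of_dvd (by have := hp.two_le; omega) hm
    have : 3 ≤ p := by have := hp.two_le; omega
    have : 3 * p ≤ p ^ 2 := by nlinarith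
    omega
  · refine no_twice_odd_normal h2 hev h3 (⊤ : Subgroup G)
      (m := (2 * r ^ 2 + 2 * r + 1) * (p ^ 2 * m)) ?_ ?_
    · exact hodd.mul (((hp.odd_of_ne_two hp3).pow).mul hmo)
    · rw [Subgroup.card_top, hGc, hsum]; ring

end Sys

/-- The theorem. -/
theorem main {p : ℕ} (hp : p.Prime) (hΩ : Fintype.card Ω = p ^ 2 + 1)
    (h2 : IsMultiplyPretransitive G Ω 2) (a : Ω) :
    IsPreprimitive (stabilizer G a) (SubMulAction.ofStabilizer G a) ∨
      (p = 2 ∧ Nat.card G = 20) := by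
  classical
  refine or_iff_not_imp_left.mpr fun hnp => ?_
  have hT : TwoTrans G Ω := fun _ _ _ _ h h' => MulAction.is_two_pretransitive_iff.mp h2 h h'
  haveI := h2
  haveI : IsPretransitive G Ω := isPretransitive_of_is_two_pretransitive
  haveI htr : IsPretransitive (stabilizer G a) (SubMulAction.ofStabilizer G a) := ⟨fun x y => by
    obtain ⟨g, hga, hgx⟩ := hT (a := a) (b := (x : Ω)) (c := a) (d := (y : Ω))
      (Ne.symm x.2) (Ne.symm y.2)
    exact ⟨⟨g, hga⟩, Subtype.ext hgx⟩⟩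
  haveI : FaithfulSMul (stabilizer G a) (SubMulAction.ofStabilizer G a) :=
    CfsgLib.Perm.Normal.faithful_ofStabilizer a
  have hX : Nat.card (SubMulAction.ofStabilizer G a) = p ^ 2 := by
    rw [SubMulAction.nat_card_ofStabilizer_eq G a, Nat.card_eq_fintype_card, hΩ,
      Nat.add_sub_cancel]
  obtain ⟨B, hB, hBt⟩ : ∃ B : Set (SubMulAction.ofStabilizer G a),
      IsBlock (stabilizer G a) B ∧ ¬ IsTrivialBlock B := by
    by_contra h
    push_neg at h
    exact hnp { isTrivialBlock_of_isBlock := fun hB => h _ hB }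
  simp only [IsTrivialBlock, not_or] at hBt
  obtain ⟨b, hb⟩ : B.Nonempty := by
    rw [Set.nonempty_iff_ne_empty]
    rintro rfl
    exact hBt.1 Set.subsingleton_empty
  have hBc : B.ncard = p := by
    have hd := IsBlock.ncard_dvd_card hB ⟨b, hb⟩
    rw [hX, Nat.dvd_prime_pow hp] at hd
    obtain ⟨i, hi2, hi⟩ := hd
    interval_cases i
    · exact absurd (Set.ncard_le_one_iff_subsingleton.mp (by rw [hi]; simp)) hBt.1
    · rw [hi, pow_one]
    · exact absurd (Set.eq_of_subset_of_ncard_le (Set.subset_univ _)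
        (by rw [Set.ncard_univ, hX, hi]) (Set.toFinite _)) hBt.2
  obtain ⟨t, hta, htb⟩ := hT (Ne.symm b.2) b.2
  let Y : Sys G Ω p :=
    ⟨a, ⟨hp, B, b, hB, hb, hBc, hX⟩, t, hta, htb⟩
  haveI : IsPretransitive (stabilizer G Y.a) (SubMulAction.ofStabilizer G Y.a) := htr
  haveI : FaithfulSMul (stabilizer G Y.a) (SubMulAction.ofStabilizer G Y.a) :=
    CfsgLib.Perm.Normal.faithful_ofStabilizer a
  by_cases hp2 : p = 2
  · refine ⟨hp2, ?_⟩
    have h1 := Y.le_two hΩ hp2
    have hG := Y.card_G hΩ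
    have h0 : 0 < Nat.card (stabilizer (stabilizer G Y.a) Y.S.b) := Nat.card_pos
    interval_cases hc : Nat.card (stabilizer (stabilizer G Y.a) Y.S.b)
    · rw [hG, hp2]; norm_num
    · exfalso
      refine card_ne_forty h2 (by rw [Nat.card_eq_fintype_card, hΩ, hp2]; norm_num) ?_
      rw [hG, hp2]
      norm_num
  · exfalso
    by_cases hK : p ∣ Nat.card Y.S.Kb
    · exact Y.crit_dvd hp hΩ hT hK
    rcases Y.S.quotient_cases with h | h
    · exact Y.final_false hp hΩ h2 hp2 (Y.case_trans hp hΩ hT hp2 hK h)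
    · exact Y.final_false hp hΩ h2 hp2 (Y.case_semi hp hΩ hT hp2 hK h)

end CfsgLib.Perm.SquarePlusOne
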