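import Cfsg.Agent.Lib.Perm.SquarePlusOne.Inner

/-!
Fixed points in every block of the elements of the kernel, and the action on blocks.
-/

set_option autoImplicit false

namespace CfsgLib.Perm.SquarePlusOne

open MulAction
open scoped Pointwise

universe u v

variable {H : Type u} {X : Type v} [Group H] [MulAction H X] [Finite H] [Finite X]
  [IsPretransitive H X] [FaithfulSMul H X]

namespace Blocks

variable {p : ℕ} (S : Blocks H X p)

/-- transitive on the other points of the block, or semiregular and commutative there. -/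
theorem block_cases (hK : ¬ p ∣ Nat.card S.Kb) :
    (∀ x ∈ S.B, ∀ y ∈ S.B, x ≠ S.b → y ≠ S.b → ∃ k ∈ S.Kb, k • x = y) ∨
    ((∀ k ∈ S.Kb, ∀ y ∈ S.B, y ≠ S.b → k • y = y → k = 1) ∧
      ∀ k ∈ S.Kb, ∀ l ∈ S.Kb, Commute k l) := by
  have hb' : S.b ∈ orbit S.K S.b := mem_orbit_self _
  rcases dichotomy (K := S.K) (X := orbit S.K S.b) (by rw [S.card_orbit_K]; exact S.hp)
    ⟨S.b, hb'⟩ with h | ⟨h1, h2⟩
  · left
    intro x hx y hy hxb hyb
    rw [← S.orbit_b] at hx hy
    obtain ⟨⟨k, hk⟩, hk1, hk2⟩ := h ⟨x, hx⟩ ⟨y, hy⟩ (fun e => hxb (congrArg Subtype.val e))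
      (fun e => hyb (congrArg Subtype.val e))
    exact ⟨k, ⟨hk, congrArg Subtype.val hk1⟩, congrArg Subtype.val hk2⟩
  · right
    refine ⟨fun k hk y hy hyb hky => ?_, fun k hk l hl => ?_⟩
    · refine S.faithful_block hK hk.1 fun z hz => ?_
      rw [← S.orbit_b] at hy hz
      exact congrArg Subtype.val (h1 ⟨k, hk.1⟩ (Subtype.ext hk.2) ⟨y, hy⟩
        (fun e => hyb (congrArg Subtype.val e)) (Subtype.ext hky) ⟨z, hz⟩)
    · have h' : k * l * (l * k)⁻¹ = 1 := by
        refine S.faithful_block hK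
          (mul_mem (mul_mem hk.1 hl.1) (inv_mem (mul_mem hl.1 hk.1))) fun z hz => ?_
        have hw : (l * k)⁻¹ • z ∈ orbit S.K S.b := by
          have := mem_orbit (z : X) (⟨(l * k)⁻¹, inv_mem (mul_mem hl.1 hk.1)⟩ : S.K)
          rw [← S.orbit_b] at hz
          rw [orbit_eq_iff.mpr hz] at this
          exact this
        have h3 := congrArg Subtype.val
          (h2 ⟨k, hk.1⟩ ⟨l, hl.1⟩ (Subtype.ext hk.2) (Subtype.ext hl.2) ⟨_, hw⟩)
        change k • l • (l * k)⁻¹ • z = l • k • (l * k)⁻¹ • z at h3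
        rw [mul_smul, mul_smul, h3, smul_smul, smul_smul, mul_inv_cancel, one_smul]
      exact mul_inv_eq_one.mp h'

/-- The kernel has the same permutation character on every block. -/
theorem card_fix_eq (hK : ¬ p ∣ Nat.card S.Kb) (x : X) (k : S.K) :
    Nat.card (fixedBy (orbit S.K x) k) = Nat.card (fixedBy (orbit S.K S.b) k) := by
  classical
  letI := Fintype.ofFinite S.K
  set f : S.K → ℕ := fun k => Nat.card (fixedBy (orbit S.K S.b) k) with hf
  set g : S.K → ℕ := fun k => Nat.card (fixedBy (orbit S.K x) k) with hg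
  set r := Nat.card (orbitRel.Quotient S.K (orbit S.K S.b × orbit S.K S.b))
  set s := Nat.card (orbitRel.Quotient S.K (orbit S.K S.b × orbit S.K x))
  have hA : ∑ k, f k * f k = r * Nat.card S.K := sum_fix_mul
  have hB : ∑ k, f k * g k = s * Nat.card S.K := sum_fix_mul
  have hgg : ∑ k, g k * g k = ∑ k, f k * f k := by
    obtain ⟨h, hh⟩ := exists_smul_eq H S.b x
    let e : S.K ≃ S.K := (MulAut.conjNormal h : MulAut S.K).toEquiv
    have he : ∀ k : S.K, g (e k) = f k := by
      intro k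
      have hmem : ∀ y : X, h • y ∈ orbit S.K x ↔ y ∈ orbit S.K S.b := by
        intro y
        rw [S.orbit_K, S.orbit_K, ← S.q_eq_iff, ← S.q_eq_iff, ← hh, S.q_smul, S.q_smul,
          smul_left_cancel_iff]
      have hek : ((e k : S.K) : H) = h * k * h⁻¹ := MulAut.conjNormal_apply h k
      symm
      refine Nat.card_congr
        { toFun := fun w => ⟨⟨h • (w : orbit S.K S.b), (hmem _).mpr (w : orbit S.K S.b).2⟩, ?_⟩
          invFun := fun w => ⟨⟨h⁻¹ • (w : orbit S.K x), (hmem _).mp (by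
            rw [smul_inv_smul]; exact (w : orbit S.K x).2)⟩, ?_⟩
          left_inv := fun w => Subtype.ext (Subtype.ext (inv_smul_smul _ _))
          right_inv := fun w => Subtype.ext (Subtype.ext (smul_inv_smul _ _)) }
      · apply Subtype.ext
        change ((e k : S.K) : H) • h • ((w : orbit S.K S.b) : X) = h • ((w : orbit S.K S.b) : X)
        rw [hek, mul_smul, mul_smul, inv_smul_smul]
        exact congrArg (h • ·) (congrArg Subtype.val w.2)
      · apply Subtype.ext
        change (k : H) • h⁻¹ • ((w : orbit S.K x) : X) = h⁻¹ • ((w : orbit S.K x) : X)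
        have hw : ((e k : S.K) : H) • ((w : orbit S.K x) : X) = ((w : orbit S.K x) : X) :=
          congrArg Subtype.val w.2
        rw [hek, mul_smul, mul_smul, ← eq_inv_smul_iff] at hw
        exact hw
    rw [← Equiv.sum_comp e]
    exact Finset.sum_congr rfl fun k _ => by rw [he]
  have hp2 : Nat.card (orbit S.K S.b × orbit S.K x) = p * p := by
    rw [Nat.card_prod, S.card_orbit_K, S.card_orbit_K]
  have hKpos : 0 < Nat.card S.K := Nat.card_pos
  have hrs : r ≤ s := by
    rcases S.block_cases hK with h1 | ⟨h1, -⟩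
    · have hs : 2 ≤ s := by
        by_contra hs
        haveI : Subsingleton (orbitRel.Quotient S.K (orbit S.K S.b × orbit S.K x)) :=
          Finite.card_le_one_iff_subsingleton.mp (by omega)
        haveI : IsPretransitive S.K (orbit S.K S.b × orbit S.K x) :=
          pretransitive_iff_subsingleton_quotient _ _ |>.mpr inferInstance
        haveI : Nonempty (orbit S.K S.b × orbit S.K x) :=
          ⟨(⟨S.b, mem_orbit_self _⟩, ⟨x, mem_orbit_self _⟩)⟩
        have hd := CfsgLib.Perm.Basic.card_dvd_card (G := S.K) (Ω := orbit S.K S.b × orbit S.K x)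
        rw [hp2, S.card_K] at hd
        exact hK (Nat.dvd_of_mul_dvd_mul_left S.hp.pos hd)
      have hb' : S.b ∈ orbit S.K S.b := mem_orbit_self _
      have hr : r ≤ 2 := by
        have hex : ∃ c : orbit S.K S.b, (c : X) ≠ S.b := by
          obtain ⟨d, hd, hdb⟩ := Set.exists_ne_of_one_lt_ncard (S.hBc.symm ▸ S.hp.one_lt) S.b
          exact ⟨⟨d, S.orbit_b ▸ hd⟩, hdb⟩
        obtain ⟨c, hc⟩ := hex
        let φ : Bool → orbitRel.Quotient S.K (orbit S.K S.b × orbit S.K S.b) := fun u =>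
          Quotient.mk'' (if u then (⟨S.b, hb'⟩, ⟨S.b, hb'⟩) else (⟨S.b, hb'⟩, c))
        have hφ : Function.Surjective φ := by
          intro z
          refine Quotient.inductionOn' z fun ⟨u, v⟩ => ?_
          obtain ⟨k, hk⟩ := exists_smul_eq S.K u ⟨S.b, hb'⟩
          by_cases hv : k • v = ⟨S.b, hb'⟩
          · refine ⟨true, Quotient.sound' ⟨k, ?_⟩⟩
            exact Prod.ext hk hv
          · have hv' : ((k • v : orbit S.K S.b) : X) ≠ S.b := fun e => hv (Subtype.ext e)
            obtain ⟨l, hl, hlv⟩ := h1 _ (S.orbit_b ▸ (k • v).2) _ (S.orbit_b ▸ c.2) hv' hc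
            refine ⟨false, Quotient.sound' ⟨⟨l, hl.1⟩ * k, ?_⟩⟩
            refine Prod.ext ?_ ?_
            · change (⟨l, hl.1⟩ * k : S.K) • u = ⟨S.b, hb'⟩
              rw [mul_smul, hk]
              exact Subtype.ext hl.2
            · change (⟨l, hl.1⟩ * k : S.K) • v = c
              rw [mul_smul]
              exact Subtype.ext hlv
        exact (Nat.card_le_card_of_surjective φ hφ).trans (by simp [Nat.card_eq_fintype_card])
      omega
    · -- each nontrivial element fixes at most one point of the block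
      have hle : ∀ k : S.K, k ≠ 1 → f k ≤ 1 := by
        intro k hk
        refine Finite.card_le_one_iff_subsingleton.mpr ⟨?_⟩
        rintro ⟨u, hu⟩ ⟨v, hv⟩
        by_contra hne
        obtain ⟨l, hl⟩ := exists_smul_eq S.K ⟨S.b, mem_orbit_self _⟩ u
        have hu' : (k : H) • ((l : H) • S.b) = (l : H) • S.b := by
          have := congrArg Subtype.val (hu : k • u = u)
          rw [← hl] at this
          exact this
        have hv' : (k : H) • ((v : orbit S.K S.b) : X) = ((v : orbit S.K S.b) : X) :=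
          congrArg Subtype.val (hv : k • v = v)
        have h2 : (l : H)⁻¹ * k * l = 1 := by
          have hm : (l : H)⁻¹ * k * l ∈ S.K :=
            S.K.mul_mem (S.K.mul_mem (S.K.inv_mem l.2) k.2) l.2
          have hm' : ((l : H)⁻¹ * k * l) • S.b = S.b := by
            rw [mul_smul, mul_smul, hu', inv_smul_smul]
          refine h1 _ ⟨hm, hm'⟩
            ((l : H)⁻¹ • ((v : orbit S.K S.b) : X)) ?_ ?_ ?_
          · rw [← S.orbit_b]
            have := (l⁻¹ • v : orbit S.K S.b).2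
            exact this
          · intro e
            refine hne (Subtype.ext (Subtype.ext ?_))
            rw [inv_smul_eq_iff] at e
            exact ((congrArg Subtype.val hl).symm.trans e.symm : (u : X) = (v : X))
          · rw [mul_smul, mul_smul, smul_inv_smul, hv']
        refine hk (Subtype.ext ?_)
        rw [mul_assoc, inv_mul_eq_one] at h2
        have h3 : (k : H) * l = 1 * l := by rw [one_mul]; exact h2.symm
        exact mul_right_cancel h3
      have h1' : ∑ k, f k * f k + 1 ≤ p * p + Nat.card S.K := by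
        have hone : f 1 = p := by
          simp only [hf]
          rw [fixedBy_one_eq_univ, Nat.card_congr (Equiv.Set.univ _), S.card_orbit_K]
        rw [← Finset.add_sum_erase _ _ (Finset.mem_univ (1 : S.K)), hone, add_assoc]
        refine Nat.add_le_add_left ?_ _
        have hb2 : ∑ k ∈ Finset.univ.erase (1 : S.K), f k * f k ≤
            (Finset.univ.erase (1 : S.K)).card • 1 :=
          Finset.sum_le_card_nsmul _ _ _ fun k hk =>
            Nat.le_trans (Nat.mul_le_mul (hle k (Finset.ne_of_mem_erase hk))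
              (hle k (Finset.ne_of_mem_erase hk))) le_rfl
        rw [smul_eq_mul, mul_one, Finset.card_erase_of_mem (Finset.mem_univ _), Finset.card_univ,
          ← Nat.card_eq_fintype_card] at hb2
        omega
      have h2' : p * p ≤ ∑ k, f k * g k := by
        refine le_trans (le_of_eq ?_) (Finset.single_le_sum (fun k _ => Nat.zero_le _)
          (Finset.mem_univ (1 : S.K)))
        simp only [hf, hg]
        rw [fixedBy_one_eq_univ, fixedBy_one_eq_univ, Nat.card_congr (Equiv.Set.univ _),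
          Nat.card_congr (Equiv.Set.univ _), S.card_orbit_K, S.card_orbit_K]
      rw [hA] at h1'
      rw [hB] at h2'
      by_contra hlt
      have : (s + 1) * Nat.card S.K ≤ r * Nat.card S.K := Nat.mul_le_mul_right _ (by omega)
      nlinarith
  have hz : ∑ k, ((f k : ℤ) - g k) ^ 2 ≤ 0 := by
    have e : ∑ k, ((f k : ℤ) - g k) ^ 2 =
        ((∑ k, f k * f k : ℕ) : ℤ) + ((∑ k, g k * g k : ℕ) : ℤ) -
          2 * ((∑ k, f k * g k : ℕ) : ℤ) := by
      push_cast
      rw [Finset.mul_sum, ← Finset.sum_add_distrib, ← Finset.sum_sub_distrib]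
      exact Finset.sum_congr rfl fun k _ => by ring
    rw [e, hgg, hA, hB]
    have : (r : ℤ) * Nat.card S.K ≤ (s : ℤ) * Nat.card S.K := by
      exact_mod_cast Nat.mul_le_mul_right _ hrs
    push_cast
    linarith
  have h0 := (Finset.sum_eq_zero_iff_of_nonneg (fun k _ => sq_nonneg _)).mp
    (le_antisymm hz (Finset.sum_nonneg fun k _ => sq_nonneg _)) k (Finset.mem_univ k)
  rw [sq_eq_zero_iff, sub_eq_zero] at h0
  exact_mod_cast h0.symm

/-- An element of `Kb` fixes a point in every block. -/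
theorem exists_fix (hK : ¬ p ∣ Nat.card S.Kb) {k : H} (hk : k ∈ S.Kb) (x : X) :
    ∃ y : X, S.q y = S.q x ∧ k • y = y := by
  have h := S.card_fix_eq hK x ⟨k, hk.1⟩
  haveI : Nonempty (fixedBy (orbit S.K S.b) (⟨k, hk.1⟩ : S.K)) :=
    ⟨⟨⟨S.b, mem_orbit_self _⟩, Subtype.ext hk.2⟩⟩
  have hpos : 0 < Nat.card (fixedBy (orbit S.K x) (⟨k, hk.1⟩ : S.K)) := by
    rw [h]; exact Nat.card_pos
  obtain ⟨⟨⟨y, hy⟩, hy'⟩⟩ := (Nat.card_pos_iff.mp hpos).1
  rw [S.orbit_K] at hy
  exact ⟨y, (S.q_eq_iff.mpr hy).symm, congrArg Subtype.val hy'⟩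

/-- The points fixed by `Kb`. -/
def T : Set X := {y | ∀ k ∈ S.K, k • S.b = S.b → k • y = y}

theorem T_isBlock : IsBlock H S.T := fixSet_isBlock S.K S.b

theorem b_mem_T : S.b ∈ S.T := fun _ _ h => h

theorem mem_T {y : X} : y ∈ S.T ↔ ∀ k ∈ S.Kb, k • y = y :=
  ⟨fun h k hk => h k hk.1 hk.2, fun h k hk hkb => h k ⟨hk, hkb⟩⟩

/-- `T` meets each block at most once. -/
theorem T_inj (hp3 : p ≠ 2) (hK : ¬ p ∣ Nat.card S.Kb) (hne : S.Kb ≠ ⊥) {y z : X}
    (hy : y ∈ S.T) (hz : z ∈ S.T) (hq : S.q y = S.q z) : y = z := by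
  obtain ⟨h, rfl⟩ := exists_smul_eq H S.b y
  have hT : h • S.T = S.T := (isBlock_iff_smul_eq_of_mem.mp S.T_isBlock) S.b_mem_T hy
  have hw : h⁻¹ • z ∈ S.T := by rw [← Set.mem_smul_set_iff_inv_smul_mem, hT]; exact hz
  have hwB : h⁻¹ • z ∈ S.B := by
    rw [← S.q_eq_b, S.q_smul, ← hq, S.q_smul, inv_smul_smul]
  suffices hwb : h⁻¹ • z = S.b by rw [← hwb, smul_inv_smul]
  by_contra hwb
  rcases S.block_cases hK with h1 | ⟨h1, -⟩
  · have hcard : 2 < S.B.ncard := by
      rw [S.hBc]
      have := S.hp.two_le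
      omega
    have hlt : ({S.b, h⁻¹ • z} : Set X).ncard < S.B.ncard :=
      lt_of_le_of_lt ((Set.ncard_insert_le _ _).trans (by rw [Set.ncard_singleton])) hcard
    obtain ⟨u, hu, hu'⟩ := Set.exists_mem_notMem_of_ncard_lt_ncard hlt (Set.toFinite _)
    simp only [Set.mem_insert_iff, Set.mem_singleton_iff, not_or] at hu'
    obtain ⟨k, hk, hku⟩ := h1 _ hwB u hu hwb hu'.1
    exact hu'.2 (by rw [← hku]; exact (S.mem_T.mp hw) k hk)
  · obtain ⟨k, hk, hk1⟩ := (Subgroup.bot_or_exists_ne_one S.Kb).resolve_left hne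
    exact hk1 (h1 k hk _ hwB hwb ((S.mem_T.mp hw) k hk))

theorem T_le (hp3 : p ≠ 2) (hK : ¬ p ∣ Nat.card S.Kb) (hne : S.Kb ≠ ⊥) : S.T.ncard ≤ p := by
  refine le_trans ?_ S.card_Q.le
  rw [← Nat.card_coe_set_eq]
  exact Nat.card_le_card_of_injective (fun y : S.T => S.q y)
    fun y z h => Subtype.ext (S.T_inj hp3 hK hne y.2 z.2 h)

theorem T_card (hp3 : p ≠ 2) (hK : ¬ p ∣ Nat.card S.Kb) (hne : S.Kb ≠ ⊥) {z : X}
    (hz : z ∈ S.T) (hzb : z ≠ S.b) : S.T.ncard = p := by
  refine le_antisymm (S.T_le hp3 hK hne) ?_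
  have hd := IsBlock.ncard_dvd_card S.T_isBlock ⟨S.b, S.b_mem_T⟩
  rw [S.hX, Nat.dvd_prime_pow S.hp] at hd
  obtain ⟨i, -, hi⟩ := hd
  rcases i with _ | i
  · exfalso
    rw [pow_zero, Set.ncard_eq_one] at hi
    obtain ⟨w, hw⟩ := hi
    have h1 := S.b_mem_T
    rw [hw, Set.mem_singleton_iff] at hz h1
    exact hzb (hz.trans h1.symm)
  · rw [hi]
    calc p = p ^ 1 := (pow_one p).symm
      _ ≤ p ^ (i + 1) := Nat.pow_le_pow_right S.hp.pos (by omega)

/-- In the semiregular case `T` meets every block. -/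
theorem T_meets (hK : ¬ p ∣ Nat.card S.Kb) (hne : S.Kb ≠ ⊥)
    (h1 : ∀ k ∈ S.Kb, ∀ y ∈ S.B, y ≠ S.b → k • y = y → k = 1)
    (h2 : ∀ k ∈ S.Kb, ∀ l ∈ S.Kb, Commute k l) (x : X) :
    ∃ y ∈ S.T, S.q y = S.q x := by
  obtain ⟨k, hk, hk1⟩ := (Subgroup.bot_or_exists_ne_one S.Kb).resolve_left hne
  obtain ⟨y, hqy, hky⟩ := S.exists_fix hK hk x
  refine ⟨y, S.mem_T.mpr fun l hl => ?_, hqy⟩
  have hf : Nat.card (fixedBy (orbit S.K x) (⟨k, hk.1⟩ : S.K)) ≤ 1 := by
    rw [S.card_fix_eq hK x]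
    refine Finite.card_le_one_iff_subsingleton.mpr ⟨?_⟩
    rintro ⟨⟨u, hu⟩, hu'⟩ ⟨⟨v, hv⟩, hv'⟩
    have hub : ∀ w, w ∈ orbit S.K S.b → k • w = w → w = S.b := fun w hw hkw => by
      by_contra hwb
      exact hk1 (h1 k hk w (S.orbit_b ▸ hw) hwb hkw)
    exact Subtype.ext (Subtype.ext ((hub u hu (congrArg Subtype.val hu')).trans
      (hub v hv (congrArg Subtype.val hv')).symm))
  have hy' : y ∈ orbit S.K x := by rw [S.orbit_K]; exact S.q_eq_iff.mp hqy.symm
  have hly : l • y ∈ orbit S.K x := by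
    rw [S.orbit_K]
    refine S.q_eq_iff.mp ?_
    rw [(S.mem_K.mp hl.1 y), hqy]
  have hlk : k • l • y = l • y := by rw [smul_smul, (h2 k hk l hl).eq, mul_smul, hky]
  have hs := (Finite.card_le_one_iff_subsingleton.mp hf).elim
    ⟨⟨y, hy'⟩, Subtype.ext hky⟩ ⟨⟨l • y, hly⟩, Subtype.ext hlk⟩
  exact (congrArg (fun w => ((w : orbit S.K x) : X)) (congrArg Subtype.val hs)).symm

/-- The action on blocks: transitive on the other blocks, or semiregular. -/
theorem quotient_cases :
    (∀ x y : X, x ∉ S.B → y ∉ S.B → ∃ h : H, h • S.b = S.b ∧ S.q (h • x) = S.q y) ∨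
    (∀ h : H, h • S.b = S.b → ∀ x : X, x ∉ S.B → S.q (h • x) = S.q x → h ∈ S.K) := by
  rcases dichotomy (K := H) (X := orbit H S.B) (by rw [S.card_Q]; exact S.hp) (S.q S.b) with
    h | ⟨h1, -⟩
  · left
    intro x y hx hy
    obtain ⟨g, hg1, hg2⟩ := h (S.q x) (S.q y) (fun e => hx (S.q_eq_b.mp e))
      (fun e => hy (S.q_eq_b.mp e))
    rw [← S.q_smul] at hg1 hg2
    obtain ⟨k, hk, hk'⟩ := S.K_trans hg1
    refine ⟨k * g, by rw [mul_smul, hk'], ?_⟩
    rw [mul_smul, S.mem_K.mp hk, hg2]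
  · right
    intro h hh x hx hq
    refine S.mem_K.mpr fun y => ?_
    rw [S.q_smul] at hq ⊢
    exact h1 h (by rw [← S.q_smul, hh]) (S.q x) (fun e => hx (S.q_eq_b.mp e)) hq (S.q y)

/-- If `Kb` is trivial and only `1` fixes the whole block, the stabiliser of `b` embeds in the
automorphism group of a group of order `p`. -/
theorem regular_kernel (hb1 : S.Kb = ⊥)
    (hW : ∀ h : H, h • S.b = S.b → (∀ y ∈ S.B, h • y = y) → h = 1) :
    (∀ h : H, h • S.b = S.b → ∀ y ∈ S.B, y ≠ S.b → h • y = y → h = 1) ∧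
      (∀ g h : H, g • S.b = S.b → h • S.b = S.b → Commute g h) ∧
      Nat.card (stabilizer H S.b) ∣ p - 1 := by
  have hKc : Nat.card S.K = p := by rw [S.card_K, hb1, Subgroup.card_bot, mul_one]
  obtain ⟨h1, h2, h3⟩ := prime_normal S.K S.hp hKc S.b (stabilizer H S.b) (fun _ h => h)
    (fun m hm h => by
      have h' : m ∈ S.Kb := ⟨hm, h⟩
      rwa [hb1, Subgroup.mem_bot] at h')
    (fun s hs hc => hW s hs fun y hy => by
      rw [← S.orbit_b] at hy
      obtain ⟨⟨m, hm⟩, rfl⟩ := hy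
      change s • m • S.b = m • S.b
      rw [smul_smul, (hc m hm).eq, mul_smul, mem_stabilizer_iff.mp hs])
  refine ⟨fun h hh y hy hyb hhy => ?_, fun g h hg hh => h2 g hg h hh, h3⟩
  rw [← S.orbit_b] at hy
  obtain ⟨⟨m, hm⟩, rfl⟩ := hy
  refine h1 h hh m hm (fun e => hyb ?_) hhy
  change m • S.b = S.b
  rw [e, one_smul]

end Blocks

end CfsgLib.Perm.SquarePlusOne
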