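import Mathlib
import Cfsg.Agent.Lib.Perm.Basic
import Cfsg.Agent.Lib.Perm.SquarePlusOne.Dichotomy

/-!
A faithful transitive group on `p ^ 2` points with blocks of size `p`: the kernel of the action on
blocks.
-/

set_option autoImplicit false

namespace CfsgLib.Perm.SquarePlusOne

open MulAction
open scoped Pointwise

universe u v

variable {H : Type u} {X : Type v} [Group H] [MulAction H X]

/-- The common fixed points of the stabiliser of `b` in a normal subgroup form a block. -/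
theorem fixSet_isBlock [Finite X] [IsPretransitive H X] (N : Subgroup H) [N.Normal] (b : X) :
    IsBlock H {y : X | ∀ n ∈ N, n • b = b → n • y = y} := by
  set T := {y : X | ∀ n ∈ N, n • b = b → n • y = y}
  have key : ∀ g : H, g • b ∈ T → g • T = T := by
    intro g hg
    refine Set.eq_of_subset_of_ncard_le ?_ (by rw [Set.ncard_smul_set]) (Set.toFinite _)
    rintro z ⟨y, hy, rfl⟩ n hn hnb
    have h1 : (g⁻¹ * n * g) • b = b := by
      rw [mul_smul, mul_smul, hg n hn hnb, inv_smul_smul]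
    have h2 := hy (g⁻¹ * n * g) (by simpa using Subgroup.Normal.conj_mem ‹N.Normal› n hn g⁻¹) h1
    rw [mul_smul, mul_smul, inv_smul_eq_iff] at h2
    exact h2
  rw [isBlock_iff_smul_eq_of_mem]
  intro g x hx hgx
  obtain ⟨h, rfl⟩ := exists_smul_eq H b x
  have h1 := key (g * h) (by rw [mul_smul]; exact hgx)
  rwa [mul_smul, key h hx] at h1

/-- Burnside's lemma on a product. -/
theorem sum_fix_mul {K : Type*} [Group K] [Fintype K] {A C : Type*} [MulAction K A]
    [MulAction K C] [Finite A] [Finite C] :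
    ∑ k : K, Nat.card (fixedBy A k) * Nat.card (fixedBy C k) =
      Nat.card (orbitRel.Quotient K (A × C)) * Nat.card K := by
  classical
  letI := Fintype.ofFinite A
  letI := Fintype.ofFinite C
  letI := Fintype.ofFinite (orbitRel.Quotient K (A × C))
  rw [Nat.card_eq_fintype_card (α := K), Nat.card_eq_fintype_card]
  have h := sum_card_fixedBy_eq_card_orbits_mul_card_group K (A × C)
  rw [← h]
  refine Finset.sum_congr rfl fun k _ => ?_
  rw [← Nat.card_prod, ← Nat.card_eq_fintype_card]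
  exact Nat.card_congr
    { toFun := fun w => ⟨((w.1 : A), (w.2 : C)), Prod.ext w.1.2 w.2.2⟩
      invFun := fun w => (⟨w.1.1, congrArg Prod.fst w.2⟩, ⟨w.1.2, congrArg Prod.snd w.2⟩) }

/-- Blocks of size `p` on `p ^ 2` points. -/
structure Blocks (H : Type u) (X : Type v) [Group H] [MulAction H X] (p : ℕ) where
  hp : p.Prime
  B : Set X
  b : X
  hB : IsBlock H B
  hb : b ∈ B
  hBc : B.ncard = p
  hX : Nat.card X = p ^ 2

namespace Blocks

variable {p : ℕ} (S : Blocks H X p) [IsPretransitive H X]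

/-- the block of a point -/
noncomputable def q (x : X) : orbit H S.B :=
  ⟨(exists_smul_eq H S.b x).choose • S.B, mem_orbit _ _⟩

theorem mem_q (x : X) : x ∈ (S.q x : Set X) :=
  ⟨S.b, S.hb, (exists_smul_eq H S.b x).choose_spec⟩

theorem eq_q {h : H} {x : X} (hx : x ∈ h • S.B) : h • S.B = (S.q x : Set X) := by
  rcases isBlock_iff_smul_eq_smul_or_disjoint.mp S.hB h
    (exists_smul_eq H S.b x).choose with e | e
  · exact e
  · exact absurd (S.mem_q x) (Set.disjoint_left.mp e hx)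

theorem q_b : (S.q S.b : Set X) = S.B := by
  rw [← S.eq_q (h := 1) (by rw [one_smul]; exact S.hb), one_smul]

theorem q_smul (h : H) (x : X) : S.q (h • x) = h • S.q x := by
  apply Subtype.ext
  rw [orbit.coe_smul]
  obtain ⟨g, hg⟩ := (S.q x).2
  rw [← hg]
  simp only
  rw [smul_smul, S.eq_q]
  rw [mul_smul, Set.smul_mem_smul_set_iff]
  simp only at hg
  rw [hg]
  exact S.mem_q x

theorem q_eq_iff {x y : X} : S.q x = S.q y ↔ y ∈ (S.q x : Set X) := by
  refine ⟨fun h => h ▸ S.mem_q y, fun h => ?_⟩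
  obtain ⟨g, hg⟩ := (S.q x).2
  simp only at hg
  apply Subtype.ext
  rw [← hg] at h ⊢
  exact S.eq_q h

theorem q_eq_b {x : X} : S.q x = S.q S.b ↔ x ∈ S.B := by
  rw [eq_comm, S.q_eq_iff, S.q_b]

theorem q_surj (j : orbit H S.B) : ∃ x, S.q x = j := by
  obtain ⟨g, hg⟩ := j.2
  exact ⟨g • S.b, Subtype.ext ((S.eq_q ⟨S.b, S.hb, rfl⟩).symm.trans hg)⟩

theorem card_Q [Finite X] : Nat.card (orbit H S.B) = p := by
  have h := IsBlock.ncard_block_mul_ncard_orbit_eq S.hB ⟨S.b, S.hb⟩
  rw [S.hBc, S.hX, sq] at h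
  rw [Nat.card_coe_set_eq]
  exact Nat.eq_of_mul_eq_mul_left S.hp.pos h

/-- the kernel on blocks -/
def K : Subgroup H := (MulAction.toPermHom H (orbit H S.B)).ker

instance K_normal : S.K.Normal := by
  unfold K
  infer_instance

theorem mem_K {k : H} : k ∈ S.K ↔ ∀ x : X, S.q (k • x) = S.q x := by
  rw [K, MonoidHom.mem_ker, Equiv.Perm.ext_iff]
  constructor
  · intro h x
    rw [S.q_smul]
    exact h (S.q x)
  · intro h j
    obtain ⟨x, rfl⟩ := S.q_surj j
    exact (S.q_smul k x).symm.trans (h x)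

variable [Finite H] [Finite X] [FaithfulSMul H X]

theorem K_ne_bot : S.K ≠ ⊥ := by
  intro h
  have hinj := (MonoidHom.ker_eq_bot_iff _).mp h
  have h1 := Subgroup.card_dvd_of_injective _ hinj
  rw [Nat.card_perm, S.card_Q] at h1
  haveI : Nonempty X := ⟨S.b⟩
  have h2 : p ^ 2 ∣ p.factorial :=
    (S.hX ▸ (CfsgLib.Perm.Basic.card_dvd_card (G := H) (Ω := X))).trans h1
  obtain ⟨n, rfl⟩ : ∃ n, p = n + 1 := ⟨p - 1, (Nat.sub_add_cancel S.hp.one_le).symm⟩
  rw [Nat.factorial_succ, sq] at h2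
  have h3 := Nat.dvd_of_mul_dvd_mul_left (by omega) h2
  have := S.hp.dvd_factorial.mp h3
  omega

theorem orbit_b : orbit S.K S.b = S.B := by
  have hsub : orbit S.K S.b ⊆ S.B := by
    rintro y ⟨⟨k, hk⟩, rfl⟩
    exact S.q_eq_b.mp (S.mem_K.mp hk S.b)
  have hblk : IsBlock H (orbit S.K S.b) := IsBlock.orbit_of_normal S.b
  have hd := IsBlock.ncard_dvd_card hblk ⟨S.b, mem_orbit_self _⟩
  rw [S.hX, Nat.dvd_prime_pow S.hp] at hd
  obtain ⟨i, -, hi⟩ := hd
  have hle : (orbit S.K S.b).ncard ≤ p :=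
    (Set.ncard_le_ncard hsub (Set.toFinite _)).trans_eq S.hBc
  refine Set.eq_of_subset_of_ncard_le hsub ?_ (Set.toFinite _)
  rw [S.hBc, hi]
  rcases i with _ | i
  · exfalso
    rw [pow_zero, Set.ncard_eq_one] at hi
    obtain ⟨y, hy⟩ := hi
    apply S.K_ne_bot
    rw [Subgroup.eq_bot_iff_forall]
    intro k hk
    refine eq_of_smul_eq_smul (α := X) fun x => ?_
    rw [one_smul]
    obtain ⟨h, rfl⟩ := exists_smul_eq H S.b x
    have hm : h⁻¹ * k * h ∈ S.K := by simpa using S.K_normal.conj_mem k hk h⁻¹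
    have h1 : (h⁻¹ * k * h) • S.b ∈ orbit S.K S.b := mem_orbit S.b (⟨_, hm⟩ : S.K)
    have h2 : S.b ∈ orbit S.K S.b := mem_orbit_self _
    rw [hy, Set.mem_singleton_iff] at h1 h2
    rw [← h2] at h1
    rw [mul_smul, mul_smul, inv_smul_eq_iff] at h1
    exact h1
  · calc p = p ^ 1 := (pow_one p).symm
      _ ≤ p ^ (i + 1) := Nat.pow_le_pow_right S.hp.pos (by omega)

theorem K_trans {x y : X} (h : S.q x = S.q y) : ∃ k ∈ S.K, k • x = y := by
  obtain ⟨g, rfl⟩ := exists_smul_eq H S.b x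
  have h1 : g⁻¹ • y ∈ S.B := by
    rw [← S.q_eq_b, S.q_smul, ← h, S.q_smul, inv_smul_smul]
  rw [← S.orbit_b] at h1
  obtain ⟨⟨k, hk⟩, hk'⟩ := h1
  refine ⟨g * k * g⁻¹, S.K_normal.conj_mem k hk g, ?_⟩
  rw [mul_smul, mul_smul, inv_smul_smul]
  exact (congrArg (g • ·) hk').trans (smul_inv_smul g y)

theorem orbit_K (x : X) : orbit S.K x = (S.q x : Set X) := by
  ext y
  constructor
  · rintro ⟨⟨k, hk⟩, rfl⟩
    exact S.q_eq_iff.mp (S.mem_K.mp hk x).symm
  · intro hy
    obtain ⟨k, hk, rfl⟩ := S.K_trans (S.q_eq_iff.mpr hy)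
    exact mem_orbit x (⟨k, hk⟩ : S.K)

theorem card_orbit_K (x : X) : Nat.card (orbit S.K x) = p := by
  rw [Nat.card_coe_set_eq, S.orbit_K]
  obtain ⟨g, hg⟩ := (S.q x).2
  rw [← hg]
  exact (Set.ncard_smul_set g S.B).trans S.hBc

/-- the stabiliser of `b` in the kernel -/
def Kb : Subgroup H := S.K ⊓ stabilizer H S.b

theorem card_K : Nat.card S.K = p * Nat.card S.Kb := by
  rw [← Subgroup.index_mul_card (stabilizer S.K S.b), index_stabilizer, ← Nat.card_coe_set_eq,
    S.card_orbit_K]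
  congr 1
  exact Nat.card_congr
    { toFun := fun k => ⟨(k : S.K), (k : S.K).2, k.2⟩
      invFun := fun k => ⟨⟨k, k.2.1⟩, k.2.2⟩ }

theorem faithful_block (hK : ¬ p ∣ Nat.card S.Kb) {k : H} (hk : k ∈ S.K)
    (hfix : ∀ y ∈ S.B, k • y = y) : k = 1 := by
  refine eq_of_smul_eq_smul (α := X) fun x => ?_
  rw [one_smul]
  set N := (MulAction.toPermHom S.K (orbit S.K S.b)).ker
  have hN : N ≤ stabilizer S.K S.b := fun u hu =>
    congrArg Subtype.val (Equiv.Perm.ext_iff.mp hu ⟨S.b, mem_orbit_self _⟩)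
  have hkN : (⟨k, hk⟩ : S.K) ∈ N := by
    rw [MonoidHom.mem_ker, Equiv.Perm.ext_iff]
    rintro ⟨y, hy⟩
    exact Subtype.ext (hfix y (S.orbit_b ▸ hy))
  set x' : orbit S.K x := ⟨x, mem_orbit_self _⟩
  have hblk : IsBlock S.K (orbit N x') := IsBlock.orbit_of_normal x'
  have h1 : (orbit N x').ncard ∣ p := by
    have h' := IsBlock.ncard_dvd_card hblk ⟨x', mem_orbit_self _⟩
    rwa [S.card_orbit_K x] at h'
  have h2 : (orbit N x').ncard ∣ Nat.card S.Kb := by
    refine (by
      rw [← index_stabilizer]; exact Subgroup.index_dvd_card _ :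
        (orbit N x').ncard ∣ Nat.card N).trans ?_
    refine (Subgroup.card_dvd_of_le hN).trans (dvd_of_eq ?_)
    exact Nat.card_congr
      { toFun := fun k => ⟨(k : S.K), (k : S.K).2, k.2⟩
        invFun := fun k => ⟨⟨k, k.2.1⟩, k.2.2⟩ }
  have h3 : (orbit N x').ncard = 1 := by
    rcases (Nat.dvd_prime S.hp).mp h1 with h | h
    · exact h
    · rw [h] at h2; exact absurd h2 hK
  obtain ⟨z, hz⟩ := Set.ncard_eq_one.mp h3
  have h4 : (⟨_, hkN⟩ : N) • x' ∈ orbit N x' := mem_orbit _ _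
  have h5 : x' ∈ orbit N x' := mem_orbit_self _
  rw [hz, Set.mem_singleton_iff] at h4 h5
  rw [← h5] at h4
  exact congrArg Subtype.val h4

/-- If `p` divides the order of `Kb` then a `p`-subgroup fixes exactly the block. -/
theorem sylow_case (h : p ∣ Nat.card S.Kb) :
    ∃ U : Subgroup H, IsPGroup p U ∧ (∀ u ∈ U, u • S.b = S.b) ∧
      ∀ y : X, (∀ u ∈ U, u • y = y) → y ∈ S.B := by
  haveI := Fact.mk S.hp
  obtain ⟨R⟩ : Nonempty (Sylow p S.K) := inferInstance
  obtain ⟨P, hP⟩ := R.exists_comap_subtype_eq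
  haveI : IsPretransitive (P : Subgroup H) X :=
    CfsgLib.Perm.Basic.sylow_isPretransitive (f := 2) S.hX P
  set V := S.K.subgroupOf (P : Subgroup H) with hV
  haveI : V.Normal := by rw [hV]; infer_instance
  have hVc : p ^ 2 ∣ Nat.card V := by
    have h1 : Nat.card R = Nat.card V := by
      rw [← hP]
      exact Nat.card_congr
        { toFun := fun k => ⟨⟨((k : S.K) : H), k.2⟩, (k : S.K).2⟩
          invFun := fun k => ⟨⟨((k : (P : Subgroup H)) : H), k.2⟩, (k : (P : Subgroup H)).2⟩ }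
    rw [← h1, R.card_eq_multiplicity]
    refine Nat.pow_dvd_pow p ((S.hp.pow_dvd_iff_le_factorization Nat.card_pos.ne').mp ?_)
    rw [S.card_K, sq]
    exact Nat.mul_dvd_mul_left p h
  have hsub : orbit V S.b ⊆ S.B := by
    rintro y ⟨⟨v, hv⟩, rfl⟩
    exact S.q_eq_b.mp (S.mem_K.mp hv S.b)
  have hblk : IsBlock (P : Subgroup H) (orbit V S.b) := IsBlock.orbit_of_normal S.b
  have hne1 : (orbit V S.b).ncard ≠ 1 := by
    intro hone
    obtain ⟨y, hy⟩ := Set.ncard_eq_one.mp hone
    have hall : ∀ v : V, v = 1 := by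
      intro v
      apply Subtype.ext; apply Subtype.ext
      refine eq_of_smul_eq_smul (α := X) fun x => ?_
      obtain ⟨g, rfl⟩ := exists_smul_eq (P : Subgroup H) S.b x
      have hm : g⁻¹ * (v : (P : Subgroup H)) * g ∈ V := by
        simpa using Subgroup.Normal.conj_mem ‹V.Normal› _ v.2 g⁻¹
      have h1 : (⟨_, hm⟩ : V) • S.b ∈ orbit V S.b := mem_orbit S.b _
      have h2 : S.b ∈ orbit V S.b := mem_orbit_self _
      rw [hy, Set.mem_singleton_iff] at h1 h2
      rw [← h2] at h1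
      change (g⁻¹ * (v : (P : Subgroup H)) * g) • S.b = S.b at h1
      rw [mul_smul, mul_smul, inv_smul_eq_iff] at h1
      simpa [Subgroup.smul_def] using h1
    haveI : Subsingleton V := ⟨fun x y => (hall x).trans (hall y).symm⟩
    have := Nat.le_of_dvd Nat.card_pos hVc
    rw [Nat.card_of_subsingleton (1 : V)] at this
    have := S.hp.two_le
    nlinarith
  have hd := IsBlock.ncard_dvd_card hblk ⟨S.b, mem_orbit_self _⟩
  rw [S.hX, Nat.dvd_prime_pow S.hp] at hd
  obtain ⟨i, -, hi⟩ := hd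
  have hip : (orbit V S.b).ncard = p := by
    refine le_antisymm ((Set.ncard_le_ncard hsub (Set.toFinite _)).trans_eq S.hBc) ?_
    rcases i with _ | i
    · exact absurd (by simpa using hi) hne1
    · rw [hi]
      calc p = p ^ 1 := (pow_one p).symm
        _ ≤ p ^ (i + 1) := Nat.pow_le_pow_right S.hp.pos (by omega)
  have horb : orbit V S.b = S.B :=
    Set.eq_of_subset_of_ncard_le hsub (by rw [S.hBc, hip]) (Set.toFinite _)
  have hVp : IsPGroup p V := P.2.to_subgroup V
  have hnorm : (stabilizer V S.b).Normal := by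
    refine Subgroup.normal_of_index_eq_minFac_card ?_
    rw [index_stabilizer, hip]
    obtain ⟨e, he⟩ := hVp.exists_card_eq
    have he0 : e ≠ 0 := by
      rintro rfl
      rw [pow_zero] at he
      rw [he, Nat.dvd_one] at hVc
      have := S.hp.two_le
      nlinarith
    rw [he, Nat.Prime.pow_minFac S.hp he0]
  set T := {y : X | ∀ n ∈ V, n • S.b = S.b → n • y = y}
  have hT : IsBlock (P : Subgroup H) T := fixSet_isBlock V S.b
  have hBT : S.B ⊆ T := by
    intro y hy n hn hnb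
    rw [← horb] at hy
    obtain ⟨v, rfl⟩ := hy
    have h1 : v⁻¹ * ⟨n, hn⟩ * v ∈ stabilizer V S.b := by
      simpa using hnorm.conj_mem ⟨n, hn⟩ hnb v⁻¹
    rw [mem_stabilizer_iff, mul_smul, mul_smul, inv_smul_eq_iff] at h1
    exact h1
  refine ⟨((stabilizer V S.b).map V.subtype).map (P : Subgroup H).subtype, ?_, ?_, ?_⟩
  · exact ((hVp.to_subgroup _).map _).map _
  · rintro u ⟨w, ⟨v, hv, rfl⟩, rfl⟩
    exact hv
  · intro y hy
    have hyT : y ∈ T := fun n hn hnb => hy _ ⟨n, ⟨⟨n, hn⟩, hnb, rfl⟩, rfl⟩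
    suffices hTB : T = S.B by rwa [← hTB]
    have hd := IsBlock.ncard_dvd_card hT ⟨S.b, fun n _ h => h⟩
    rw [S.hX, Nat.dvd_prime_pow S.hp] at hd
    obtain ⟨j, hj2, hj⟩ := hd
    have hj' : j < 2 := by
      rcases lt_or_eq_of_le hj2 with h' | rfl
      · exact h'
      · exfalso
        have huniv : T = Set.univ := Set.eq_of_subset_of_ncard_le (Set.subset_univ _)
          (by rw [Set.ncard_univ, S.hX, hj]) (Set.toFinite _)
        have hbot : stabilizer V S.b = ⊥ := by
          rw [Subgroup.eq_bot_iff_forall]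
          intro v hv
          apply Subtype.ext; apply Subtype.ext
          refine eq_of_smul_eq_smul (α := X) fun x => ?_
          rw [show ((1 : V) : (P : Subgroup H)) = 1 from rfl, Subgroup.coe_one, one_smul]
          exact (huniv.symm ▸ Set.mem_univ x : x ∈ T) _ v.2 hv
        have h1 := Subgroup.index_mul_card (stabilizer V S.b)
        rw [index_stabilizer, hip, hbot, Subgroup.card_bot, mul_one] at h1
        rw [← h1] at hVc
        have := Nat.le_of_dvd S.hp.pos hVc
        have := S.hp.two_le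
        nlinarith
    refine (Set.eq_of_subset_of_ncard_le hBT ?_ (Set.toFinite _)).symm
    rw [S.hBc, hj]
    calc p ^ j ≤ p ^ 1 := Nat.pow_le_pow_right S.hp.pos (by omega)
      _ = p := pow_one p

end Blocks

end CfsgLib.Perm.SquarePlusOne
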