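import Mathlib
import Cfsg.Agent.Lib.Perm.Basic
import Cfsg.Agent.Lib.Perm.Normal

/-!
A two-transitive group of even degree has no normal subgroup of order twice an odd number; groups
of degree five.
-/

set_option autoImplicit false

namespace CfsgLib.Perm.SquarePlusOne

open MulAction

universe u v

theorem exists_odd_index_two {N : Type u} [Group N] [Finite N] {m : ℕ} (hm : Odd m)
    (hN : Nat.card N = 2 * m) : ∃ M : Subgroup N, M.Normal ∧ Nat.card M = m := by
  haveI := Fact.mk Nat.prime_two
  obtain ⟨P⟩ : Nonempty (Sylow 2 N) := inferInstance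
  have hm0 : m ≠ 0 := by rintro rfl; exact (Nat.not_odd_zero) hm
  have hP : Nat.card P = 2 := by
    rw [P.card_eq_multiplicity, hN, Nat.factorization_mul two_ne_zero hm0]
    have : m.factorization 2 = 0 :=
      Nat.factorization_eq_zero_of_not_dvd (Nat.two_dvd_ne_zero.mpr (Nat.odd_iff.mp hm))
    simp [this, Nat.prime_two.factorization_self]
  have hcyc : IsCyclic P := isCyclic_of_prime_card hP
  have hmin : (Nat.card N).minFac = 2 := by
    rw [Nat.minFac_eq_two_iff, hN]; exact dvd_mul_right 2 m
  refine ⟨_, MonoidHom.normal_ker (MonoidHom.transferSylow P (hcyc.normalizer_le_centralizer hmin)),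
    ?_⟩
  have h := (IsCyclic.isComplement' hmin hcyc).card_mul
  rw [hP, hN, mul_comm 2 m] at h
  exact Nat.eq_of_mul_eq_mul_right two_pos h

theorem no_twice_odd_normal {G : Type u} {Ω : Type v} [Group G] [Finite G] [MulAction G Ω]
    [Finite Ω] [FaithfulSMul G Ω] (h2 : IsMultiplyPretransitive G Ω 2) (hev : Even (Nat.card Ω))
    (h3 : 3 ≤ Nat.card Ω) (N : Subgroup G) [N.Normal] {m : ℕ} (hm : Odd m)
    (hN : Nat.card N = 2 * m) : False := by
  haveI := h2
  haveI : IsPretransitive G Ω := isPretransitive_of_is_two_pretransitive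
  haveI : IsPreprimitive G Ω := isPreprimitive_of_is_two_pretransitive h2
  haveI : Nonempty Ω := (Nat.card_pos_iff.mp (by omega)).1
  obtain ⟨M, hM, hMc⟩ := exists_odd_index_two hm hN
  haveI := hM
  set M' := M.map N.subtype with hM'
  have hMc' : Nat.card M' = m :=
    (Nat.card_congr (M.equivMapOfInjective _ N.subtype_injective).toEquiv).symm.trans hMc
  -- every element of odd order of `N` lies in `M`
  have hodd : ∀ x : N, Odd (orderOf x) → x ∈ M := by
    intro x hx
    rw [← QuotientGroup.eq_one_iff]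
    rw [← orderOf_eq_one_iff]
    refine Nat.eq_one_of_dvd_coprimes (Nat.coprime_two_left.mpr hx) ?_
      (orderOf_map_dvd (QuotientGroup.mk' M) x)
    have hq : Nat.card (N ⧸ M) = 2 := by
      have := M.card_eq_card_quotient_mul_card_subgroup
      rw [hN, hMc] at this
      exact (Nat.eq_of_mul_eq_mul_right (Nat.pos_of_ne_zero (by rintro rfl; exact Nat.not_odd_zero hm))
        this).symm
    rw [← hq]
    exact orderOf_dvd_natCard _
  haveI : M'.Normal := by
    refine ⟨fun x hx g => ?_⟩
    obtain ⟨y, hy, rfl⟩ := hx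
    have hmem : g * (y : G) * g⁻¹ ∈ N := Subgroup.Normal.conj_mem ‹_› _ y.2 g
    refine ⟨⟨_, hmem⟩, hodd _ ?_, rfl⟩
    have e : orderOf (⟨g * (y : G) * g⁻¹, hmem⟩ : N) = orderOf (⟨y, hy⟩ : M) := by
      rw [← Subgroup.orderOf_coe, ← Subgroup.orderOf_coe ⟨y, hy⟩, ← Subgroup.orderOf_coe y]
      exact MulEquiv.orderOf_eq (MulAut.conj g) (y : G)
    rw [e]
    exact (hMc ▸ hm).of_dvd_nat (orderOf_dvd_natCard _)
  by_cases hb : M' = ⊥
  · rw [hb, Subgroup.card_bot] at hMc'
    subst hMc'
    have hNne : N ≠ ⊥ := by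
      intro h; rw [h, Subgroup.card_bot] at hN; omega
    haveI := CfsgLib.Perm.Normal.isPretransitive_normal (Ω := Ω) N hNne
    have := Nat.le_of_dvd Nat.card_pos (CfsgLib.Perm.Basic.card_dvd_card (G := N) (Ω := Ω))
    omega
  · haveI := CfsgLib.Perm.Normal.isPretransitive_normal (Ω := Ω) M' hb
    have h := hev.two_dvd.trans (CfsgLib.Perm.Basic.card_dvd_card (G := M') (Ω := Ω))
    rw [hMc'] at h
    exact Nat.not_even_iff_odd.mpr hm (even_iff_two_dvd.mpr h)

/-- No two-transitive group of degree five and order forty. -/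
theorem card_ne_forty {G : Type u} {Ω : Type v} [Group G] [Finite G] [MulAction G Ω]
    [Finite Ω] [FaithfulSMul G Ω] (h2 : IsMultiplyPretransitive G Ω 2) (h5 : Nat.card Ω = 5) :
    Nat.card G ≠ 40 := by
  intro h40
  haveI := h2
  haveI : IsPretransitive G Ω := isPretransitive_of_is_two_pretransitive
  haveI : IsPreprimitive G Ω := isPreprimitive_of_is_two_pretransitive h2
  haveI := Fact.mk (by norm_num : Nat.Prime 5)
  obtain ⟨P⟩ : Nonempty (Sylow 5 G) := inferInstance
  have hP : Nat.card P = 5 := by
    rw [P.card_eq_multiplicity, h40]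
    rw [show (40 : ℕ) = 5 * 8 by rfl, Nat.factorization_mul (by norm_num) (by norm_num)]
    have : (8 : ℕ).factorization 5 = 0 := Nat.factorization_eq_zero_of_not_dvd (by norm_num)
    simp [this, (by norm_num : Nat.Prime 5).factorization_self]
  have hone : Nat.card (Sylow 5 G) = 1 := by
    have hd := P.card_dvd_index
    have hi : (P : Subgroup G).index = 8 := by
      have := (P : Subgroup G).index_mul_card
      rw [hP, h40] at this
      omega
    rw [hi] at hd
    have hm := card_sylow_modEq_one 5 G
    have hle := Nat.le_of_dvd (by norm_num) hd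
    unfold Nat.ModEq at hm
    interval_cases hc : Nat.card (Sylow 5 G) <;> omega
  haveI : Subsingleton (Sylow 5 G) := Finite.card_le_one_iff_subsingleton.mp hone.le
  haveI : (P : Subgroup G).Normal := Sylow.normal_of_subsingleton P
  have hPne : (P : Subgroup G) ≠ ⊥ := by
    intro h; rw [h, Subgroup.card_bot] at hP; omega
  haveI := CfsgLib.Perm.Normal.isPretransitive_normal (Ω := Ω) (P : Subgroup G) hPne
  haveI : Nonempty Ω := (Nat.card_pos_iff.mp (by omega)).1
  obtain ⟨a⟩ := ‹Nonempty Ω›
  haveI : IsCyclic (P : Subgroup G) := isCyclic_of_prime_card hP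
  have hcomm : IsMulCommutative (P : Subgroup G) := IsCyclic.commutative
  have hst := CfsgLib.Perm.Normal.stabilizer_eq_bot_of_comm (Ω := Ω) (P : Subgroup G) hcomm a
  have hinj : Function.Injective
      ((MulAut.conjNormal (H := (P : Subgroup G))).comp (stabilizer G a).subtype) := by
    rw [injective_iff_map_eq_one]
    intro s hs
    apply Subtype.ext
    refine eq_of_smul_eq_smul (α := Ω) fun x => ?_
    obtain ⟨n, rfl⟩ := exists_smul_eq (P : Subgroup G) a x
    have h := congrArg Subtype.val (DFunLike.congr_fun hs n)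
    simp only [MonoidHom.comp_apply, MulAut.conjNormal_apply, Subgroup.coe_subtype,
      MulAut.one_apply] at h
    change (s : G) • (n : G) • a = (1 : G) • (n : G) • a
    rw [one_smul, smul_smul, mul_inv_eq_iff_eq_mul.mp h, mul_smul, mem_stabilizer_iff.mp s.2]
  have h1 := Subgroup.card_dvd_of_injective _ hinj
  rw [IsCyclic.card_mulAut, hP, Nat.totient_prime (by norm_num)] at h1
  have h2' := CfsgLib.Perm.Basic.card_eq_mul_stabilizer (G := G) a
  rw [h5, h40] at h2'
  have := Nat.le_of_dvd (by norm_num) h1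
  omega

end CfsgLib.Perm.SquarePlusOne
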