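import Mathlib

/-!
Block systems of a two-point-transitive action on `p ^ 2 + 1` points: a line system with lines of
`p + 1` points cannot exist, and consequences.
-/

set_option autoImplicit false

namespace CfsgLib.Perm.SquarePlusOne

open MulAction
open scoped Pointwise

variable {G Ω : Type*} [Group G] [MulAction G Ω]

/-- A block of the stabiliser of `a` on the other points, through `b`. -/
structure Blk (G : Type*) {Ω : Type*} [Group G] [MulAction G Ω] (a b : Ω) (B : Set Ω) : Prop where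
  not_mem : a ∉ B
  mem : b ∈ B
  stable : ∀ g : G, g • a = a → ∀ x ∈ B, g • x ∈ B → g • B = B

/-- Two-point transitivity in the form used here. -/
def TwoTrans (G Ω : Type*) [Group G] [MulAction G Ω] : Prop :=
  ∀ ⦃a b c d : Ω⦄, a ≠ b → c ≠ d → ∃ g : G, g • a = c ∧ g • b = d

theorem Blk.ne {a b : Ω} {B : Set Ω} (h : Blk G a b B) : a ≠ b :=
  fun e => h.not_mem (e ▸ h.mem)

/-- translates of a block seen from the same point and sharing a point coincide. -/
theorem Blk.eq_of_mem {a b : Ω} {B : Set Ω} (h : Blk G a b B) {g k : G} (hgk : g • a = k • a)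
    {x : Ω} (hx : x ∈ g • B) (hx' : x ∈ k • B) : g • B = k • B := by
  obtain ⟨u, hu, rfl⟩ := hx
  obtain ⟨v, hv, hv'⟩ := hx'
  simp only at hv'
  have e : (k⁻¹ * g) • B = B := h.stable (k⁻¹ * g) (by rw [mul_smul, hgk, inv_smul_smul]) u hu (by
    rw [mul_smul, ← hv', inv_smul_smul]; exact hv)
  calc g • B = k • ((k⁻¹ * g) • B) := by rw [smul_smul, mul_inv_cancel_left]
    _ = k • B := by rw [e]

theorem Blk.swap_inv {a b : Ω} {B : Set Ω} (h : Blk G a b B) {t : G} (hta : t • a = b)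
    (htb : t • b = a) : t⁻¹ • B = t • B := by
  refine h.eq_of_mem ?_ (x := a) ?_ ?_
  · rw [hta, inv_smul_eq_iff]; exact htb.symm
  · rw [Set.mem_inv_smul_set_iff, hta]; exact h.mem
  · exact ⟨b, h.mem, htb⟩

variable [Fintype Ω] {p : ℕ}

/-- No block gives rise to lines. -/
theorem steiner (hp : p.Prime) (hΩ : Fintype.card Ω = p ^ 2 + 1) (h2 : TwoTrans G Ω) {a b : Ω}
    {B : Set Ω} (hB : Blk G a b B) (hBc : B.ncard = p) {t : G} (hta : t • a = b)
    (ht : t • insert a B = insert a B) : False := by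
  classical
  set L := insert a B with hL
  have hab := hB.ne
  have haL : a ∈ L := Set.mem_insert _ _
  have hbL : b ∈ L := Set.mem_insert_of_mem _ hB.mem
  have hL1 : L.ncard = p + 1 := by
    rw [hL, Set.ncard_insert_of_notMem hB.not_mem (Set.toFinite _), hBc]
  have hfix : ∀ g : G, g • a = a → ∀ x ∈ B, g • x ∈ L → g • L = L := by
    intro g hg x hx hgx
    have hgxB : g • x ∈ B := by
      rcases hgx with h | h
      · have : x = a := by rw [← inv_smul_smul g x, h, ← hg, inv_smul_smul, hg]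
        exact absurd (this ▸ hx) hB.not_mem
      · exact h
    rw [hL, Set.smul_set_insert, hg, hB.stable g hg x hx hgxB]
  have htr : ∀ x ∈ L, ∃ s : G, s • L = L ∧ s • a = x := by
    intro x hx
    rcases hx with rfl | hx
    · exact ⟨1, one_smul _ _, one_smul _ _⟩
    · obtain ⟨g, hga, hgb⟩ := h2 hab (c := a) (d := x) (fun e => hB.not_mem (e ▸ hx))
      refine ⟨g * t, ?_, by rw [mul_smul, hta, hgb]⟩
      rw [mul_smul, ht]
      exact hfix g hga b hB.mem (by rw [hgb]; exact Set.mem_insert_of_mem _ hx)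
  have key : ∀ g : G, ∀ x ∈ L, ∀ y ∈ L, x ≠ y → g • x ∈ L → g • y ∈ L → g • L = L := by
    intro g x hx y hy hxy hgx hgy
    obtain ⟨s, hs, hsa⟩ := htr x hx
    obtain ⟨r, hr, hra⟩ := htr _ hgx
    have hy' : s⁻¹ • y ∈ B := by
      have h' : s⁻¹ • y ∈ L := by
        rw [← Set.mem_smul_set_iff_inv_smul_mem, hs]; exact hy
      rcases h' with h' | h'
      · exact absurd (by rw [← hsa, ← h', smul_inv_smul]) hxy
      · exact h'
    have h' := hfix (r⁻¹ * g * s) (by rw [mul_smul, mul_smul, hsa, ← hra, inv_smul_smul]) _ hy' (by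
      rw [mul_smul, mul_smul, smul_inv_smul, ← Set.mem_smul_set_iff_inv_smul_mem, hr]; exact hgy)
    rw [mul_smul, mul_smul, hs, inv_smul_eq_iff, hr] at h'
    exact h'
  have hex : ∀ z : Ω × Ω, ∃ M : Set Ω, z.1 ≠ z.2 →
      ∃ g : G, M = g • L ∧ z.1 ∈ M ∧ z.2 ∈ M := fun z => by
    by_cases hz : z.1 = z.2
    · exact ⟨∅, fun h => absurd hz h⟩
    · obtain ⟨g, h1, h2'⟩ := h2 hab hz
      exact ⟨g • L, fun _ => ⟨g, rfl, ⟨a, haL, h1⟩, ⟨b, hbL, h2'⟩⟩⟩
  choose f hf using hex
  have huniq : ∀ (g : G) (z : Ω × Ω), z.1 ≠ z.2 → z.1 ∈ g • L → z.2 ∈ g • L → f z = g • L := by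
    intro g z hz h1 h1'
    obtain ⟨k, hk, h3, h4⟩ := hf z hz
    rw [hk] at h3 h4 ⊢
    obtain ⟨u, hu, hu'⟩ := h3
    obtain ⟨v, hv, hv'⟩ := h4
    simp only at hu' hv'
    have e := key (g⁻¹ * k) u hu v hv (fun e => hz (by rw [← hu', ← hv', e]))
      (by rw [mul_smul, hu', ← Set.mem_smul_set_iff_inv_smul_mem]; exact h1)
      (by rw [mul_smul, hv', ← Set.mem_smul_set_iff_inv_smul_mem]; exact h1')
    calc k • L = g • ((g⁻¹ * k) • L) := by rw [smul_smul, mul_inv_cancel_left]
      _ = g • L := by rw [e]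
  let S : Finset (Ω × Ω) := (Finset.univ : Finset Ω).offDiag
  have hfib : ∀ M ∈ S.image f, (S.filter (fun z => f z = M)).card = (p + 1) * p := by
    intro M hM
    obtain ⟨z, hz, rfl⟩ := Finset.mem_image.mp hM
    have hz' : z.1 ≠ z.2 := (Finset.mem_offDiag.mp hz).2.2
    obtain ⟨g, hg, -, -⟩ := hf z hz'
    have heq : S.filter (fun w => f w = f z) = (g • L).toFinset.offDiag := by
      ext w
      simp only [S, Finset.mem_filter, Finset.mem_offDiag, Finset.mem_univ, true_and,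
        Set.mem_toFinset]
      constructor
      · rintro ⟨hw, hfw⟩
        obtain ⟨k, -, h1, h1'⟩ := hf w hw
        rw [hfw, hg] at h1 h1'
        exact ⟨h1, h1', hw⟩
      · rintro ⟨h1, h1', hw⟩
        exact ⟨hw, (huniq g w hw h1 h1').trans hg.symm⟩
    rw [heq, Finset.offDiag_card, ← Set.ncard_eq_toFinset_card', Set.ncard_smul_set, hL1]
    rw [← Nat.mul_sub_one, Nat.add_sub_cancel]
  have hsum := Finset.card_eq_sum_card_image f S
  rw [Finset.sum_congr rfl hfib, Finset.sum_const, smul_eq_mul, Finset.offDiag_card,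
    Finset.card_univ, hΩ] at hsum
  have hsum' : (p ^ 2 + 1) * p ^ 2 = (S.image f).card * ((p + 1) * p) := by
    rw [← hsum, Nat.add_mul (p ^ 2) 1 (p ^ 2 + 1), Nat.one_mul, Nat.add_sub_cancel]
    ring
  have h3 : p + 1 ∣ (p ^ 2 + 1) * p ^ 2 := ⟨(S.image f).card * p, by rw [hsum']; ring⟩
  have h4 : p + 1 ∣ p ^ 2 + 1 := (Nat.Coprime.pow_right 2
    (Nat.coprime_self_add_left.mpr (Nat.coprime_one_left p))).dvd_of_dvd_mul_right h3
  have h5 : p + 1 ∣ 2 := by
    have h6 : (p + 1 : ℤ) ∣ (p : ℤ) ^ 2 + 1 := by exact_mod_cast h4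
    have h7 : (p + 1 : ℤ) ∣ ((p : ℤ) ^ 2 + 1) - (p + 1) * ((p : ℤ) - 1) :=
      Int.dvd_sub h6 (dvd_mul_right _ _)
    rw [show ((p : ℤ) ^ 2 + 1) - (p + 1) * ((p : ℤ) - 1) = 2 by ring] at h7
    exact_mod_cast h7
  have := Nat.le_of_dvd (by norm_num) h5
  have := hp.two_le
  omega

/-- The criterion: the points other than `a` in the block seen from `b` are never, together with
`b`, a block seen from `a`. -/
theorem criterion (hp : p.Prime) (hΩ : Fintype.card Ω = p ^ 2 + 1) (h2 : TwoTrans G Ω) {a b : Ω}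
    {B T : Set Ω} (hB : Blk G a b B) (hBc : B.ncard = p) {t : G} (hta : t • a = b)
    (htb : t • b = a) (hT : Blk G a b T) (hTeq : T = insert b (t • B \ {a})) : False := by
  have hab := hB.ne
  have hatB : a ∈ t • B := ⟨b, hB.mem, htb⟩
  -- if `a, c` are in one block seen from `b` then `a, b` are in one block seen from `c`
  have hsym : ∀ c ∈ t • B, c ≠ a → ∃ k : G, k • a = c ∧ a ∈ k • B ∧ b ∈ k • B := by
    intro c hc hca
    have hcb : c ≠ b := by
      rintro rfl
      exact hB.not_mem (by rwa [← hta, Set.smul_mem_smul_set_iff] at hc)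
    have hcT : c ∈ T := hTeq ▸ Set.mem_insert_of_mem _ ⟨hc, by simpa using hca⟩
    obtain ⟨g, hga, hgb⟩ := h2 hab (c := a) (d := c) hca.symm
    have hgT := hT.stable g hga b hT.mem (hgb ▸ hcT)
    have hb : g⁻¹ • b ∈ T := by
      rw [← Set.mem_smul_set_iff_inv_smul_mem, hgT]; exact hT.mem
    have hbne : g⁻¹ • b ≠ b := fun e => hcb (by rw [← hgb]; rwa [eq_comm, eq_inv_smul_iff] at e)
    have hb' : g⁻¹ • b ∈ t • B := by
      rw [hTeq] at hb
      rcases hb with h | h
      · exact absurd h hbne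
      · exact h.1
    refine ⟨g * t, by rw [mul_smul, hta, hgb], ?_, ?_⟩
    · rw [mul_smul, ← hga, Set.smul_mem_smul_set_iff]; exact hatB
    · rw [mul_smul, Set.mem_smul_set_iff_inv_smul_mem]; exact hb'
  have hsub : B \ {b} ⊆ t • B \ {a} := by
    rintro x ⟨hx, hxb⟩
    have hxa : x ≠ a := fun e => hB.not_mem (e ▸ hx)
    obtain ⟨h, hha, hhb⟩ := h2 hab (c := x) (d := a) hxa
    have hia : h⁻¹ • a = b := by rw [inv_smul_eq_iff, hhb]
    have e1 : h⁻¹ • B = t • B := hB.eq_of_mem (by rw [hia, hta]) (x := a)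
      ⟨x, hx, by simp only; rw [inv_smul_eq_iff, hha]⟩ hatB
    have hc : h⁻¹ • b ∈ t • B := by rw [← e1, Set.smul_mem_smul_set_iff]; exact hB.mem
    have hca : h⁻¹ • b ≠ a := by
      rw [ne_eq, inv_smul_eq_iff, hha]; exact fun e => hxb e.symm
    obtain ⟨k, hk, hka, hkb⟩ := hsym _ hc hca
    have hk' : (h * k) • a = t • a := by rw [mul_smul, hk, smul_inv_smul, hta]
    have e2 : (h * k) • B = t • B := hB.eq_of_mem hk' (x := a)
      (by rw [mul_smul, ← hhb, Set.smul_mem_smul_set_iff]; exact hkb) hatB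
    refine ⟨e2 ▸ ?_, hxa⟩
    rw [mul_smul, ← hha, Set.smul_mem_smul_set_iff]; exact hka
  have heq : B \ {b} = t • B \ {a} := Set.eq_of_subset_of_ncard_le hsub (by
    rw [Set.ncard_diff_singleton_of_mem hatB, Set.ncard_diff_singleton_of_mem hB.mem,
      Set.ncard_smul_set]) (Set.toFinite _)
  refine steiner hp hΩ h2 hB hBc hta ?_
  rw [Set.smul_set_insert, hta]
  calc insert b (t • B) = insert b (insert a (t • B \ {a})) := by
        rw [Set.insert_diff_self_of_mem hatB]
    _ = insert a (insert b (B \ {b})) := by rw [← heq, Set.insert_comm]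
    _ = insert a B := by rw [Set.insert_diff_self_of_mem hB.mem]

end CfsgLib.Perm.SquarePlusOne
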