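import Cfsg.Prelude.Def_LieExceptional
import Cfsg.Agent.S0741
import Cfsg.Agent.Lib.Perm.SquarePlusOne.System
import Cfsg.Agent.Lib.Perm.SquarePlusOne.Fix
import Cfsg.Agent.Lib.Perm.SquarePlusOne.Parity

/-!
A two-transitive group of degree `p ^ 2 + 1` is doubly primitive or has order twenty.
-/

set_option autoImplicit false

namespace CfsgLib.Perm.SquarePlusOne

open MulAction
open scoped Pointwise

universe u v

variable {G : Type u} {Ω : Type v} [Group G] [MulAction G Ω]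


/-- The data: blocks on the points other than `a`, and an element exchanging `a` and `b`. -/
structure Sys (G : Type u) (Ω : Type v) [Group G] [MulAction G Ω] (p : ℕ) where
  a : Ω
  S : Blocks (stabilizer G a) (SubMulAction.ofStabilizer G a) p
  t : G
  hta : t • a = (S.b : Ω)
  htb : t • (S.b : Ω) = a

namespace Sys

variable {p : ℕ} (Y : Sys G Ω p) [Fintype Ω] [Finite G] [FaithfulSMul G Ω]
  [IsPretransitive (stabilizer G Y.a) (SubMulAction.ofStabilizer G Y.a)]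
  [FaithfulSMul (stabilizer G Y.a) (SubMulAction.ofStabilizer G Y.a)]

/-- the second point -/
def bb : Ω := (Y.S.b : Ω)

/-- the block in `Ω` -/
def BB : Set Ω := Subtype.val '' Y.S.B

omit [Fintype Ω] [Finite G] [FaithfulSMul G Ω]
  [IsPretransitive (stabilizer G Y.a) (SubMulAction.ofStabilizer G Y.a)]
  [FaithfulSMul (stabilizer G Y.a) (SubMulAction.ofStabilizer G Y.a)] in
theorem blk_image {T : Set (SubMulAction.ofStabilizer G Y.a)}
    (hT : IsBlock (stabilizer G Y.a) T) (hb : Y.S.b ∈ T) :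
    Blk G Y.a Y.bb (Subtype.val '' T) := by
  refine ⟨SubMulAction.notMem_val_image G T, ⟨_, hb, rfl⟩, ?_⟩
  rintro g hg x ⟨x', hx', rfl⟩ ⟨y', hy', hxy⟩
  have h := (isBlock_iff_smul_eq_of_mem.mp hT) (g := (⟨g, hg⟩ : stabilizer G Y.a)) hx' (by
    have : (⟨g, hg⟩ : stabilizer G Y.a) • x' = y' := Subtype.ext hxy.symm
    rw [this]; exact hy')
  conv_rhs => rw [← h]
  ext z
  constructor
  · rintro ⟨w, ⟨u, hu, rfl⟩, rfl⟩
    exact ⟨(⟨g, hg⟩ : stabilizer G Y.a) • u, ⟨u, hu, rfl⟩, rfl⟩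
  · rintro ⟨w, ⟨u, hu, rfl⟩, rfl⟩
    exact ⟨(u : Ω), ⟨u, hu, rfl⟩, rfl⟩

theorem blk : Blk G Y.a Y.bb Y.BB := Y.blk_image Y.S.hB Y.S.hb

theorem card_BB : Y.BB.ncard = p := by
  rw [BB, Set.ncard_image_of_injective _ Subtype.val_injective, Y.S.hBc]

theorem a_mem : Y.a ∈ Y.t • Y.BB := ⟨Y.bb, Y.blk.mem, Y.htb⟩

theorem bb_not_mem : Y.bb ∉ Y.t • Y.BB := by
  rintro ⟨x, hx, h⟩
  have : x = Y.a := smul_left_cancel Y.t (h.trans Y.hta.symm)
  exact Y.blk.not_mem (this ▸ hx)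

theorem inv_a : Y.t⁻¹ • Y.a = Y.bb := inv_smul_eq_iff.mpr Y.htb.symm

theorem inv_b : Y.t⁻¹ • Y.bb = Y.a := inv_smul_eq_iff.mpr Y.hta.symm

/-- the two-point stabiliser preserves the block seen from `b`. -/
theorem smul_D {g : G} (ga : g • Y.a = Y.a) (gb : g • Y.bb = Y.bb) :
    g • (Y.t • Y.BB) = Y.t • Y.BB := by
  rw [smul_smul]
  refine Y.blk.eq_of_mem ?_ (x := Y.a) ?_ Y.a_mem
  · rw [mul_smul, Y.hta]; exact gb
  · exact ⟨Y.bb, Y.blk.mem, by simp only; rw [mul_smul]; exact (congrArg (g • ·) Y.htb).trans ga⟩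

/-- conjugation by `t` on the two-point stabiliser -/
def conjT (g : G) : G := Y.t * g * Y.t⁻¹

theorem conjT_a {g : G} (gb : g • Y.bb = Y.bb) : Y.conjT g • Y.a = Y.a := by
  rw [conjT, mul_smul, mul_smul, Y.inv_a, gb]; exact Y.htb

theorem conjT_b {g : G} (ga : g • Y.a = Y.a) : Y.conjT g • Y.bb = Y.bb := by
  rw [conjT, mul_smul, mul_smul, Y.inv_b, ga]; exact Y.hta

/-- as an element of the stabiliser -/
def cH (h : stabilizer G Y.a) (hb : h • Y.S.b = Y.S.b) : stabilizer G Y.a :=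
  ⟨Y.conjT h, Y.conjT_a (congrArg Subtype.val hb)⟩

theorem cH_b (h : stabilizer G Y.a) (hb : h • Y.S.b = Y.S.b) : Y.cH h hb • Y.S.b = Y.S.b :=
  Subtype.ext (Y.conjT_b h.2)

theorem cH_smul (h : stabilizer G Y.a) (hb : h • Y.S.b = Y.S.b) {z : Ω}
    (hz : (h : G) • Y.t⁻¹ • z = Y.t⁻¹ • z) : (Y.cH h hb : G) • z = z := by
  change (Y.t * (h : G) * Y.t⁻¹) • z = z
  rw [mul_smul, mul_smul, hz, smul_inv_smul]

theorem inv_mem_BB {z : Ω} (hz : z ∈ Y.t • Y.BB) : Y.t⁻¹ • z ∈ Y.BB :=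
  Set.mem_smul_set_iff_inv_smul_mem.mp hz

/-- the part of the block seen from `b` that avoids `a`, inside the points other than `a` -/
def D : Set (SubMulAction.ofStabilizer G Y.a) := {y | (y : Ω) ∈ Y.t • Y.BB}

theorem card_D : Y.D.ncard = p - 1 := by
  have h : Subtype.val '' Y.D = Y.t • Y.BB \ {Y.a} := by
    ext z
    constructor
    · rintro ⟨y, hy, rfl⟩; exact ⟨hy, y.2⟩
    · rintro ⟨hz, hza⟩; exact ⟨⟨z, hza⟩, hz, rfl⟩
  rw [← Set.ncard_image_of_injective _ Subtype.val_injective, h,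
    Set.ncard_diff_singleton_of_mem Y.a_mem, Set.ncard_smul_set, Y.card_BB]

theorem smul_mem_D {h : stabilizer G Y.a} (hb : h • Y.S.b = Y.S.b)
    {y : SubMulAction.ofStabilizer G Y.a} (hy : y ∈ Y.D) : h • y ∈ Y.D := by
  change (h : G) • (y : Ω) ∈ Y.t • Y.BB
  rw [← Y.smul_D (g := (h : G)) h.2 (congrArg Subtype.val hb)]
  exact Set.smul_mem_smul_set hy

theorem inv_D {y : SubMulAction.ofStabilizer G Y.a} (hy : y ∈ Y.D) :
    ∃ w ∈ Y.S.B, w ≠ Y.S.b ∧ (w : Ω) = Y.t⁻¹ • (y : Ω) := by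
  obtain ⟨w, hw, hwy⟩ := Y.inv_mem_BB hy
  refine ⟨w, hw, fun e => ?_, hwy⟩
  rw [e] at hwy
  have : (y : Ω) = Y.a := by
    have h := congrArg (Y.t • ·) hwy
    simp only [smul_inv_smul] at h
    exact h.symm.trans Y.htb
  exact y.2 this

variable (hp : p.Prime) (hΩ : Fintype.card Ω = p ^ 2 + 1) (h2 : TwoTrans G Ω)

include hp hΩ h2 in
theorem crit_B (h : ∀ y ∈ Y.D, y ∈ Y.S.B) : False := by
  refine criterion hp hΩ h2 Y.blk Y.card_BB Y.hta Y.htb Y.blk ?_
  refine (Set.eq_of_subset_of_ncard_le ?_ ?_ (Set.toFinite _)).symm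
  · rintro z (rfl | ⟨hz, hza⟩)
    · exact Y.blk.mem
    · exact ⟨⟨z, hza⟩, h ⟨z, hza⟩ hz, rfl⟩
  · rw [Set.ncard_insert_of_notMem (fun hb => Y.bb_not_mem hb.1) (Set.toFinite _),
      Set.ncard_diff_singleton_of_mem Y.a_mem, Set.ncard_smul_set, Y.card_BB]
    omega

include hp hΩ h2 in
theorem crit_T (hp3 : p ≠ 2) (hK : ¬ p ∣ Nat.card Y.S.Kb) (hne : Y.S.Kb ≠ ⊥)
    (h : ∀ y ∈ Y.D, y ∈ Y.S.T) : False := by
  refine criterion hp hΩ h2 Y.blk Y.card_BB Y.hta Y.htb
    (Y.blk_image Y.S.T_isBlock Y.S.b_mem_T) ?_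
  refine (Set.eq_of_subset_of_ncard_le ?_ ?_ (Set.toFinite _)).symm
  · rintro z (rfl | ⟨hz, hza⟩)
    · exact ⟨Y.S.b, Y.S.b_mem_T, rfl⟩
    · exact ⟨⟨z, hza⟩, h ⟨z, hza⟩ hz, rfl⟩
  · rw [Set.ncard_image_of_injective _ Subtype.val_injective,
      Set.ncard_insert_of_notMem (fun hb => Y.bb_not_mem hb.1) (Set.toFinite _),
      Set.ncard_diff_singleton_of_mem Y.a_mem, Set.ncard_smul_set, Y.card_BB]
    have := Y.S.T_le hp3 hK hne
    omega

include hp hΩ h2 in
theorem crit_dvd (hK : p ∣ Nat.card Y.S.Kb) : False := by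
  haveI := Fact.mk hp
  obtain ⟨U, hU, hUb, hUfix⟩ := Y.S.sylow_case hK
  refine Y.crit_B hp hΩ h2 fun y hy => hUfix y fun u hu => ?_
  obtain ⟨e, he⟩ := hU.card_orbit y
  have hsub : orbit U y ⊆ Y.D := by
    rintro z ⟨w, rfl⟩
    exact Y.smul_mem_D (hUb _ w.2) hy
  have hle := Set.ncard_le_ncard hsub (Set.toFinite _)
  rw [Y.card_D, ← Nat.card_coe_set_eq, he] at hle
  have he0 : e = 0 := by
    by_contra h0
    have := Nat.le_self_pow h0 p
    have := hp.two_le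
    omega
  rw [he0, pow_zero, Nat.card_coe_set_eq, Set.ncard_eq_one] at he
  obtain ⟨z, hz⟩ := he
  have h1 : (⟨u, hu⟩ : U) • y ∈ orbit U y := mem_orbit _ _
  have h2' : y ∈ orbit U y := mem_orbit_self _
  rw [hz, Set.mem_singleton_iff] at h1 h2'
  exact h1.trans h2'.symm

/-- The conditions reached in every case that survives. -/
def Final : Prop :=
  Y.S.Kb = ⊥ ∧
  (∀ h : stabilizer G Y.a, h • Y.S.b = Y.S.b → (∀ y ∈ Y.S.B, h • y = y) → h = 1) ∧
  (∀ h : stabilizer G Y.a, h • Y.S.b = Y.S.b → ∀ x ∉ Y.S.B,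
    Y.S.q (h • x) = Y.S.q x → h ∈ Y.S.K)

include hp hΩ h2 in
theorem case_trans (hp3 : p ≠ 2) (hK : ¬ p ∣ Nat.card Y.S.Kb)
    (h1 : ∀ x y, x ∉ Y.S.B → y ∉ Y.S.B →
      ∃ h : stabilizer G Y.a, h • Y.S.b = Y.S.b ∧ Y.S.q (h • x) = Y.S.q y) : Y.Final := by
  classical
  by_cases hD : ∀ y ∈ Y.D, y ∈ Y.S.B
  · exact (Y.crit_B hp hΩ h2 hD).elim
  obtain ⟨z, hzD, hzB⟩ : ∃ z ∈ Y.D, z ∉ Y.S.B := by simpa only [not_forall, exists_prop] using hD
  have himg : ∀ x, x ∉ Y.S.B → ∃ y ∈ Y.D, Y.S.q y = Y.S.q x := fun x hx => by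
    obtain ⟨h, hb, hq⟩ := h1 z x hzB hx
    exact ⟨h • z, Y.smul_mem_D hb hzD, hq⟩
  have hcQ : Nat.card (orbit (stabilizer G Y.a) Y.S.B) = p := Y.S.card_Q
  have hge : ({Y.S.q Y.S.b}ᶜ : Set (orbit (stabilizer G Y.a) Y.S.B)) ⊆ Y.S.q '' Y.D := by
    intro j hj
    obtain ⟨x, rfl⟩ := Y.S.q_surj j
    exact himg x fun hx => hj (Y.S.q_eq_b.mpr hx)
  have hc : ({Y.S.q Y.S.b}ᶜ : Set (orbit (stabilizer G Y.a) Y.S.B)).ncard = p - 1 := by
    rw [Set.ncard_compl, Set.ncard_singleton, hcQ]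
  have hup : (Y.S.q '' Y.D).ncard ≤ p - 1 := Y.card_D ▸ Set.ncard_image_le (Set.toFinite _)
  have heq : ({Y.S.q Y.S.b}ᶜ : Set (orbit (stabilizer G Y.a) Y.S.B)) = Y.S.q '' Y.D :=
    Set.eq_of_subset_of_ncard_le hge (by rw [hc]; exact hup) (Set.toFinite _)
  have hinj : Set.InjOn Y.S.q Y.D := by
    refine Set.injOn_of_ncard_image_eq ?_ (Set.toFinite _)
    rw [← heq, hc, Y.card_D]
  have hKfix : ∀ k ∈ Y.S.Kb, ∀ y ∈ Y.D, k • y = y := fun k hk y hy =>
    hinj (Y.smul_mem_D hk.2 hy) hy (Y.S.mem_K.mp hk.1 y)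
  by_cases hne : Y.S.Kb = ⊥
  swap
  · exact (Y.crit_T hp hΩ h2 hp3 hK hne fun y hy =>
      Y.S.mem_T.mpr fun k hk => hKfix k hk y hy).elim
  have hW : ∀ h : stabilizer G Y.a, h • Y.S.b = Y.S.b → (∀ y ∈ Y.S.B, h • y = y) → h = 1 := by
    intro h hb hfix
    have hcD : ∀ y ∈ Y.D, Y.cH h hb • y = y := by
      intro y hy
      obtain ⟨w, hw, -, hwy⟩ := Y.inv_D hy
      refine Subtype.ext (Y.cH_smul h hb ?_)
      rw [← hwy]
      exact congrArg Subtype.val (hfix w hw)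
    have hcK : Y.cH h hb ∈ Y.S.K := by
      refine Y.S.mem_K.mpr fun x => ?_
      rw [Y.S.q_smul]
      by_cases hx : x ∈ Y.S.B
      · rw [Y.S.q_eq_b.mpr hx, ← Y.S.q_smul, Y.cH_b h hb]
      · obtain ⟨y, hy, hq⟩ := himg x hx
        rw [← hq, ← Y.S.q_smul, hcD y hy]
    have h0 : Y.cH h hb ∈ Y.S.Kb := ⟨hcK, Y.cH_b h hb⟩
    rw [hne, Subgroup.mem_bot] at h0
    have h3 : Y.t * (h : G) * Y.t⁻¹ = 1 := congrArg Subtype.val h0
    exact Subtype.ext (conj_eq_one_iff.mp h3)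
  refine ⟨hne, hW, fun g hg x hx hq => ?_⟩
  obtain ⟨-, hcomm, -⟩ := Y.S.regular_kernel hne hW
  refine Y.S.mem_K.mpr fun y => ?_
  by_cases hy : y ∈ Y.S.B
  · rw [Y.S.q_smul, Y.S.q_eq_b.mpr hy, ← Y.S.q_smul, hg]
  · obtain ⟨h, hb, hhx⟩ := h1 x y hx hy
    rw [Y.S.q_smul] at hhx hq ⊢
    rw [← hhx, smul_smul, (hcomm g h hg hb).eq, mul_smul, hq]

theorem conjT_mul (g h : G) : Y.conjT (g * h) = Y.conjT g * Y.conjT h := by
  simp only [conjT]; group

include hp hΩ h2 in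
theorem case_semi (hp3 : p ≠ 2) (hK : ¬ p ∣ Nat.card Y.S.Kb)
    (h1 : ∀ h : stabilizer G Y.a, h • Y.S.b = Y.S.b → ∀ x ∉ Y.S.B,
      Y.S.q (h • x) = Y.S.q x → h ∈ Y.S.K) : Y.Final := by
  classical
  by_cases hne : Y.S.Kb = ⊥
  · refine ⟨hne, fun h hb hfix => ?_, h1⟩
    by_contra hh
    refine Y.crit_B hp hΩ h2 fun y hy => ?_
    by_contra hyB
    have hcy : Y.cH h hb • y = y := by
      obtain ⟨w, hw, -, hwy⟩ := Y.inv_D hy
      refine Subtype.ext (Y.cH_smul h hb ?_)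
      rw [← hwy]
      exact congrArg Subtype.val (hfix w hw)
    have h0 : Y.cH h hb ∈ Y.S.Kb := ⟨h1 _ (Y.cH_b h hb) y hyB (by rw [hcy]), Y.cH_b h hb⟩
    rw [hne, Subgroup.mem_bot] at h0
    exact hh (Subtype.ext (conj_eq_one_iff.mp (congrArg Subtype.val h0)))
  exfalso
  let c : Y.S.Kb → stabilizer G Y.a := fun k => Y.cH k k.2.2
  have hcmul : ∀ k l : Y.S.Kb, c (k * l) = c k * c l := fun k l =>
    Subtype.ext (Y.conjT_mul _ _)
  by_cases hout : ∃ k : Y.S.Kb, c k ∉ Y.S.K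
  · obtain ⟨k₀, hk₀⟩ := hout
    -- an element mapped outside the kernel fixes the block seen from `b` pointwise
    have hkey : ∀ k : Y.S.Kb, c k ∉ Y.S.K → (∀ y ∈ Y.S.B, c k • y = y) := by
      intro k hk
      let Fk : Set (SubMulAction.ofStabilizer G Y.a) := fixedBy _ (k : stabilizer G Y.a)
      let Fc : Set (SubMulAction.ofStabilizer G Y.a) := fixedBy _ (c k)
      have hFc : Fc ⊆ Y.S.B := fun y hy => by
        by_contra hyB
        exact hk (h1 (c k) (Y.cH_b _ _) y hyB (by rw [show c k • y = y from hy]))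
      have hFk : p ≤ Fk.ncard := by
        have : (Set.univ : Set (orbit (stabilizer G Y.a) Y.S.B)) ⊆ Y.S.q '' Fk := by
          intro j _
          obtain ⟨x, rfl⟩ := Y.S.q_surj j
          obtain ⟨y, hq, hy⟩ := Y.S.exists_fix hK k.2 x
          exact ⟨y, hy, hq⟩
        have h' := (Set.ncard_le_ncard this (Set.toFinite _)).trans
          (Set.ncard_image_le (Set.toFinite _))
        rwa [Set.ncard_univ, Y.S.card_Q] at h'
      have himage : (fun z => Y.t • z) '' insert Y.a (Subtype.val '' Fk) ⊆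
          insert Y.a (Subtype.val '' Fc) := by
        rintro z ⟨w, hw, rfl⟩
        have hw' : ((k : stabilizer G Y.a) : G) • w = w := by
          rcases hw with rfl | ⟨y, hy, rfl⟩
          · exact (k : stabilizer G Y.a).2
          · exact congrArg Subtype.val hy
        have hfix : (c k : G) • Y.t • w = Y.t • w :=
          Y.cH_smul _ _ (by rw [inv_smul_smul]; exact hw')
        by_cases hz : Y.t • w = Y.a
        · exact Or.inl hz
        · exact Or.inr ⟨⟨_, hz⟩, Subtype.ext hfix, rfl⟩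
      have hn : Fk.ncard ≤ Fc.ncard := by
        have h' := Set.ncard_le_ncard himage (Set.toFinite _)
        rw [Set.ncard_image_of_injective _ (MulAction.injective Y.t),
          Set.ncard_insert_of_notMem (SubMulAction.notMem_val_image G _) (Set.toFinite _),
          Set.ncard_insert_of_notMem (SubMulAction.notMem_val_image G _) (Set.toFinite _),
          Set.ncard_image_of_injective _ Subtype.val_injective,
          Set.ncard_image_of_injective _ Subtype.val_injective] at h'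
        omega
      have heq : Fc = Y.S.B := Set.eq_of_subset_of_ncard_le hFc
        (by rw [Y.S.hBc]; omega) (Set.toFinite _)
      intro y hy
      rw [← heq] at hy
      exact hy
    have hall : ∀ k : Y.S.Kb, ∀ y ∈ Y.S.B, c k • y = y := by
      intro k y hy
      by_cases hk : c k ∈ Y.S.K
      · have h3 : c (k * k₀) ∉ Y.S.K := fun h => hk₀ (by
          rw [hcmul] at h
          exact (Subgroup.mul_mem_cancel_left _ hk).mp h)
        have h4 := hkey _ h3 y hy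
        rwa [hcmul, mul_smul, hkey k₀ hk₀ y hy] at h4
      · exact hkey k hk y hy
    refine Y.crit_T hp hΩ h2 hp3 hK hne fun y hy => Y.S.mem_T.mpr fun k hk => ?_
    by_cases hk' : c ⟨k, hk⟩ ∈ Y.S.K
    · have h3 := Y.S.faithful_block hK hk' (hall ⟨k, hk⟩)
      have h4 : k = 1 := Subtype.ext (conj_eq_one_iff.mp (congrArg Subtype.val h3))
      rw [h4, one_smul]
    · -- `k` fixes what `t` maps into the block
      obtain ⟨w, hw, -, hwy⟩ := Y.inv_D hy
      have hys : Y.t • (y : Ω) ∈ Y.BB := by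
        have h5 : (y : Ω) ∈ Y.t⁻¹ • Y.BB := by
          rw [Y.blk.swap_inv Y.hta Y.htb]; exact hy
        rwa [Set.mem_inv_smul_set_iff] at h5
      obtain ⟨v, hv, hvy⟩ := hys
      have h6 : (c ⟨k, hk⟩ : G) • Y.t • (y : Ω) = Y.t • (y : Ω) := by
        rw [← hvy]
        exact congrArg Subtype.val (hall ⟨k, hk⟩ v hv)
      change (Y.t * (k : G) * Y.t⁻¹) • Y.t • (y : Ω) = Y.t • (y : Ω) at h6
      rw [mul_smul, mul_smul, inv_smul_smul] at h6
      exact Subtype.ext (smul_left_cancel Y.t h6)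
  · push_neg at hout
    let c' : Y.S.Kb → Y.S.Kb := fun k => ⟨c k, hout k, Y.cH_b _ _⟩
    have hsurj : Function.Surjective c' := by
      refine Finite.injective_iff_surjective.mp fun k l h => ?_
      have h' : Y.t * ((k : stabilizer G Y.a) : G) * Y.t⁻¹ =
          Y.t * ((l : stabilizer G Y.a) : G) * Y.t⁻¹ :=
        congrArg (fun w : Y.S.Kb => ((w : stabilizer G Y.a) : G)) h
      exact Subtype.ext (Subtype.ext (mul_left_cancel (mul_right_cancel h')))
    have hTc : Y.S.T.ncard = p := by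
      rcases Y.S.block_cases hK with htr | ⟨hs, hcm⟩
      · by_cases hD : ∀ y ∈ Y.D, y ∈ Y.S.B
        · exact (Y.crit_B hp hΩ h2 hD).elim
        obtain ⟨z, hzD, hzB⟩ : ∃ z ∈ Y.D, z ∉ Y.S.B := by
          simpa only [not_forall, exists_prop] using hD
        have horb : ∀ y ∈ Y.D, Y.S.q y = Y.S.q z := by
          intro y hy
          obtain ⟨u, hu, hub, huz⟩ := Y.inv_D hzD
          obtain ⟨v, hv, hvb, hvy⟩ := Y.inv_D hy
          obtain ⟨k, hk, hkuv⟩ := htr u hu v hv hub hvb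
          have hcz : c ⟨k, hk⟩ • z = y := by
            apply Subtype.ext
            change (Y.t * (k : G) * Y.t⁻¹) • (z : Ω) = (y : Ω)
            rw [mul_smul, mul_smul, ← huz,
              show (k : G) • (u : Ω) = (v : Ω) from congrArg Subtype.val hkuv, hvy,
              smul_inv_smul]
          rw [← hcz, Y.S.mem_K.mp (hout ⟨k, hk⟩)]
        let J : Set (SubMulAction.ofStabilizer G Y.a) := {w | Y.S.q w = Y.S.q z}
        have hJ : J.ncard = p := by
          have e : J = (Y.S.q z : Set _) := by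
            ext w
            exact eq_comm.trans Y.S.q_eq_iff
          rw [e, ← Y.S.orbit_K, ← Nat.card_coe_set_eq, Y.S.card_orbit_K]
        have hDJ : Y.D ⊆ J := horb
        obtain ⟨w, hw⟩ : ∃ w, J \ Y.D = {w} := by
          rw [← Set.ncard_eq_one, Set.ncard_diff hDJ (Set.toFinite _), hJ, Y.card_D]
          have := hp.two_le
          omega
        have hwm : w ∈ J \ Y.D := hw ▸ rfl
        have hwT : w ∈ Y.S.T := by
          refine Y.S.mem_T.mpr fun k hk => ?_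
          have h3 : k • w ∈ J \ Y.D := by
            refine ⟨(Y.S.mem_K.mp hk.1 w).trans hwm.1, fun hD' => hwm.2 ?_⟩
            have h4 := Y.smul_mem_D (h := k⁻¹) (by rw [inv_smul_eq_iff]; exact hk.2.symm) hD'
            rwa [inv_smul_smul] at h4
          rw [hw] at h3
          exact h3
        refine Y.S.T_card hp3 hK hne hwT fun e => hzB ?_
        have h5 : Y.S.q w = Y.S.q z := hwm.1
        rw [e] at h5
        exact Y.S.q_eq_b.mp h5.symm
      · have hlt : Y.S.B.ncard < (Set.univ : Set (SubMulAction.ofStabilizer G Y.a)).ncard := by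
          rw [Set.ncard_univ, Y.S.hX, Y.S.hBc]
          have := hp.two_le
          nlinarith
        obtain ⟨x, -, hx⟩ := Set.exists_mem_notMem_of_ncard_lt_ncard hlt (Set.toFinite _)
        obtain ⟨y, hy, hq⟩ := Y.S.T_meets hK hne hs hcm x
        refine Y.S.T_card hp3 hK hne hy fun e => hx (Y.S.q_eq_b.mp ?_)
        rw [← hq, e]
    refine steiner hp hΩ h2 (Y.blk_image Y.S.T_isBlock Y.S.b_mem_T)
      (by rw [Set.ncard_image_of_injective _ Subtype.val_injective, hTc]) Y.hta ?_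
    refine Set.eq_of_subset_of_ncard_le ?_ (by rw [Set.ncard_smul_set]) (Set.toFinite _)
    rintro z ⟨w, hw, rfl⟩
    by_cases hz : Y.t • w = Y.a
    · exact Or.inl hz
    refine Or.inr ⟨⟨_, hz⟩, Y.S.mem_T.mpr fun l hl => ?_, rfl⟩
    obtain ⟨k, hk⟩ := hsurj ⟨l, hl⟩
    have hk' : c k = l := congrArg Subtype.val hk
    have hkw : ((k : stabilizer G Y.a) : G) • w = w := by
      rcases hw with rfl | ⟨y, hy, rfl⟩
      · exact (k : stabilizer G Y.a).2
      · exact congrArg Subtype.val (Y.S.mem_T.mp hy k k.2)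
    apply Subtype.ext
    rw [← hk']
    exact Y.cH_smul _ _ (by rw [inv_smul_smul]; exact hkw)

end Sys

end CfsgLib.Perm.SquarePlusOne
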